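import Cfsg.Agent.H154.StrP.Thirteen
import Cfsg.Agent.H666.SporM
import Cfsg.Agent.MThirteen.TwoA
import Cfsg.Agent.BpMon.Thirteen
import Cfsg.Agent.H3.M13C

/-!
# The Monster has no strongly 13-embedded subgroup (helper154)
-/

set_option autoImplicit false
set_option maxRecDepth 100000

namespace Cfsg.Agent.H154.StrP.M13

open Subgroup Cfsg Cfsg.Agent.MonsterX Cfsg.Agent.MonsterX.InstData Cfsg.Agent.MonsterU Cfsg.Agent.MonsterP Cfsg.Agent.MonsterN
open Cfsg.Agent.LThreeMB
open Cfsg.Agent.BpSpor.MBigModel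

section

variable {K : Type*} [Group K] [Finite K] {p : ℕ} [hp : Fact p.Prime]

theorem zpowers_of_mem {x c : K} (hx : orderOf x = p) (hc : c ∈ zpowers x) (hc1 : c ≠ 1) : x ∈ zpowers c := by
  have h1 : Nat.card ↥(zpowers x) = p := by rw [Nat.card_zpowers, hx]
  have h2 : zpowers c ≤ zpowers x := zpowers_le.2 hc
  have h3 : zpowers c = zpowers x := by
    refine eq_of_le_of_card_ge h2 ?_
    have h4 : Nat.card ↥(zpowers c) ∣ p := by
      rw [← h1]
      exact card_dvd_of_le h2
    rcases (Nat.dvd_prime hp.out).1 h4 with h5 | h5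
    · exact absurd (zpowers_eq_bot.1 (card_eq_one.1 h5)) hc1
    · rw [h1, h5]
  rw [h3]
  exact mem_zpowers x

/-- two elements of order `p`, the first in no conjugate of the subgroup generated by the second -/
theorem exists_sq {x b : K} (hx : orderOf x = p) (hb : orderOf b = p) (h : ∀ g : K, x ∉ zpowers (g * b * g⁻¹)) :
    ∃ E : Subgroup K, Nat.card E = p ^ 2 ∧ ¬ IsCyclic E := by
  have hne1 : ∀ {y : K}, orderOf y = p → y ≠ 1 := by
    rintro y hy rfl
    rw [orderOf_one] at hy
    exact hp.out.one_lt.ne hy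
  -- a central element of a Sylow subgroup
  have hxp : IsPGroup p ↥(zpowers x) := IsPGroup.of_card (n := 1) (by rw [Nat.card_zpowers, hx, pow_one])
  have hbp : IsPGroup p ↥(zpowers b) := IsPGroup.of_card (n := 1) (by rw [Nat.card_zpowers, hb, pow_one])
  obtain ⟨P, hP⟩ := hxp.exists_le_sylow
  obtain ⟨Q, hQ⟩ := hbp.exists_le_sylow
  obtain ⟨g, hg⟩ := MulAction.exists_smul_eq K Q P
  have hbP : g * b * g⁻¹ ∈ (P : Subgroup K) := by
    rw [← hg]
    exact Subgroup.smul_mem_pointwise_smul b (MulAut.conj g) Q (hQ (mem_zpowers b))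
  have hb1o : orderOf (g * b * g⁻¹) = p := by
    rw [← hb]
    exact orderOf_injective (MulAut.conj g).toMonoidHom (MulAut.conj g).injective b
  have hPne : Nontrivial ↥(P : Subgroup K) :=
    ⟨⟨⟨x, hP (mem_zpowers x)⟩, 1, fun h => hne1 hx (congrArg Subtype.val h)⟩⟩
  obtain ⟨c, hcP, hco, hcc⟩ : ∃ c ∈ (P : Subgroup K), orderOf c = p ∧ ∀ y ∈ (P : Subgroup K), y * c = c * y := by
    have hnt := P.isPGroup'.center_nontrivial
    have hZp : IsPGroup p ↥(center ↥(P : Subgroup K)) := P.isPGroup'.to_subgroup _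
    have hd : p ∣ Nat.card ↥(center ↥(P : Subgroup K)) := by
      obtain ⟨n, hn⟩ := IsPGroup.iff_card.1 hZp
      rw [hn]
      refine dvd_pow_self p fun h0 => ?_
      rw [h0, pow_zero] at hn
      exact not_subsingleton _ (Nat.card_eq_one_iff_unique.1 hn).1
    obtain ⟨c, hc⟩ := exists_prime_orderOf_dvd_card' p hd
    refine ⟨((c : ↥(P : Subgroup K)) : K), (c : ↥(P : Subgroup K)).2, ?_, fun y hy => ?_⟩
    · rw [Subgroup.orderOf_coe, Subgroup.orderOf_coe, hc]
    · exact congrArg Subtype.val (mem_center_iff.1 c.2 ⟨y, hy⟩)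
  -- `c` is not a power of both
  obtain ⟨y, hyP, hyo, hyc⟩ : ∃ y ∈ (P : Subgroup K), orderOf y = p ∧ c ∉ zpowers y := by
    by_contra hcon
    push Not at hcon
    have h1 := hcon x (hP (mem_zpowers x)) hx
    have h2 := hcon _ hbP hb1o
    have h3 : x ∈ zpowers c := zpowers_of_mem hx h1 (hne1 hco)
    exact h g ((zpowers_le.2 h2) h3)
  -- the subgroup
  have hcy : Commute c y := (hcc y hyP).symm
  let f : ↥(zpowers c) × ↥(zpowers y) →* K :=
    MonoidHom.noncommCoprod (zpowers c).subtype (zpowers y).subtype (by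
      rintro ⟨_, i, rfl⟩ ⟨_, j, rfl⟩
      exact (Commute.zpow_zpow hcy i j))
  have hf : Function.Injective f := by
    rw [← MonoidHom.ker_eq_bot_iff, eq_bot_iff]
    rintro ⟨a, b'⟩ hab
    rw [MonoidHom.mem_ker] at hab
    have h3 : (a : K) * b' = 1 := hab
    have h4 : (a : K) = (b' : K)⁻¹ := eq_inv_of_mul_eq_one_left h3
    have h5 : (a : K) = 1 := by
      by_contra ha1
      apply hyc
      have h6 : c ∈ zpowers (a : K) := zpowers_of_mem hco a.2 ha1
      refine (zpowers_le.2 ?_) h6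
      rw [h4]
      exact inv_mem b'.2
    have h6 : (b' : K) = 1 := by rw [h5, one_mul] at h3; exact h3
    rw [mem_bot]
    exact Prod.ext (Subtype.ext h5) (Subtype.ext h6)
  have hcard : Nat.card ↥f.range = p ^ 2 := by
    rw [← Nat.card_congr (MonoidHom.ofInjective hf).toEquiv, Nat.card_prod, Nat.card_zpowers, Nat.card_zpowers, hco, hyo,
      pow_two]
  refine ⟨f.range, hcard, ?_⟩
  rintro ⟨⟨e, he⟩⟩
  have h7 : orderOf e = p ^ 2 := by
    rw [← hcard]
    exact orderOf_eq_card_of_forall_mem_zpowers he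
  obtain ⟨⟨a, b'⟩, hab⟩ := e.2
  have h8 : e ^ p = 1 := by
    apply Subtype.ext
    show (e : K) ^ p = 1
    rw [← hab, ← map_pow]
    have h9 : ((a, b') : ↥(zpowers c) × ↥(zpowers y)) ^ p = 1 := by
      refine Prod.ext ?_ ?_
      · show a ^ p = 1
        have h10 : Nat.card ↥(zpowers c) = p := by rw [Nat.card_zpowers, hco]
        have h11 : a ^ Nat.card ↥(zpowers c) = 1 := pow_card_eq_one'
        rwa [h10] at h11
      · show b' ^ p = 1
        have h10 : Nat.card ↥(zpowers y) = p := by rw [Nat.card_zpowers, hyo]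
        have h11 : b' ^ Nat.card ↥(zpowers y) = 1 := pow_card_eq_one'
        rwa [h10] at h11
    rw [h9, map_one]
  have h9 := orderOf_dvd_of_pow_eq_one h8
  rw [h7] at h9
  have h10 := Nat.le_of_dvd hp.out.pos h9
  have := hp.out.one_lt
  nlinarith

end

/-- conjugates -/
theorem orderOf_conj {G : Type*} [Group G] (g a : G) : orderOf (g * a * g⁻¹) = orderOf a :=
  orderOf_injective (MulAut.conj g).toMonoidHom (MulAut.conj g).injective a

/-- **Type B**: two commuting involutions of `C(x)` are equal. -/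
theorem eq_of_comm {x v w : MG} (hx : orderOf x = 13) (hz : ∃ g : MG, (g * KDone.K.z * g⁻¹) * x = x * (g * KDone.K.z * g⁻¹))
    (hv : orderOf v = 2) (hw : orderOf w = 2) (hvw : v * w = w * v) (hxv : v * x = x * v) (hxw : w * x = x * w) :
    v = w := by
  have hfin : Finite MG := finite
  obtain ⟨g, hg⟩ := hz
  -- conjugate to `C(z)`
  set x₁ : MG := g⁻¹ * x * g with hx₁
  have hx₁o : orderOf x₁ = 13 := by
    have := orderOf_conj g⁻¹ x
    rw [inv_inv] at this
    rw [hx₁, this, hx]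
  have hx₁z : x₁ * KDone.K.z = KDone.K.z * x₁ := by
    calc g⁻¹ * x * g * KDone.K.z = g⁻¹ * (x * (g * KDone.K.z * g⁻¹)) * g := by group
      _ = g⁻¹ * ((g * KDone.K.z * g⁻¹) * x) * g := by rw [hg]
      _ = KDone.K.z * (g⁻¹ * x * g) := by group
  have hconj : ∀ a : MG, a * x = x * a → (g⁻¹ * a * g) * x₁ = x₁ * (g⁻¹ * a * g) := by
    intro a ha
    calc g⁻¹ * a * g * (g⁻¹ * x * g) = g⁻¹ * (a * x) * g := by group
      _ = g⁻¹ * (x * a) * g := by rw [ha]
      _ = (g⁻¹ * x * g) * (g⁻¹ * a * g) := by group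
  have hord : ∀ a : MG, orderOf (g⁻¹ * a * g) = orderOf a := by
    intro a
    have := orderOf_conj g⁻¹ a
    rwa [inv_inv] at this
  let xz : ↥(centralizer ({KDone.K.z} : Set MG)) := ⟨x₁, mem_centralizer_singleton_iff.2 hx₁z⟩
  have hxz : orderOf xz = 13 := by rw [Subgroup.orderOf_mk, hx₁o]
  have hu := BpMon.Thirteen.only_zD KDone.lft MFive.Row.hc hxz
  have hzo : orderOf (zD xz) = 2 := MFive.orderOf_zD (KChart.chart KDone.lft MFive.Row.hc) xz
  let vc : ↥(centralizer ({((xz : MG))} : Set MG)) := ⟨g⁻¹ * v * g, mem_centralizer_singleton_iff.2 (hconj v hxv)⟩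
  let wc : ↥(centralizer ({((xz : MG))} : Set MG)) := ⟨g⁻¹ * w * g, mem_centralizer_singleton_iff.2 (hconj w hxw)⟩
  have hvo : orderOf vc = 2 := by rw [Subgroup.orderOf_mk, hord, hv]
  have hwo : orderOf wc = 2 := by rw [Subgroup.orderOf_mk, hord, hw]
  have hvwc : vc * wc = wc * vc := by
    apply Subtype.ext
    show g⁻¹ * v * g * (g⁻¹ * w * g) = g⁻¹ * w * g * (g⁻¹ * v * g)
    calc g⁻¹ * v * g * (g⁻¹ * w * g) = g⁻¹ * (v * w) * g := by group
      _ = g⁻¹ * (w * v) * g := by rw [hvw]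
      _ = _ := by group
  obtain ⟨h, hh⟩ := BpRankZero.isConj_of_one hzo hu hvo
  -- conjugate `v` to `z`
  have h1 : (h * wc * h⁻¹) * (h * wc * h⁻¹) = 1 := by
    have : wc * wc = 1 := by rw [← pow_two, ← hwo, pow_orderOf_eq_one]
    calc h * wc * h⁻¹ * (h * wc * h⁻¹) = h * (wc * wc) * h⁻¹ := by group
      _ = 1 := by rw [this]; group
  have h2 : (h * wc * h⁻¹) * zD xz = zD xz * (h * wc * h⁻¹) := by
    rw [← hh]
    calc h * wc * h⁻¹ * (h * vc * h⁻¹) = h * (wc * vc) * h⁻¹ := by group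
      _ = h * (vc * wc) * h⁻¹ := by rw [hvwc]
      _ = _ := by group
  have h3 : vc = wc := by
    rcases hu _ h1 h2 with h4 | h4
    · exfalso
      have h5 : wc = 1 := by
        calc wc = h⁻¹ * (h * wc * h⁻¹) * h := by group
          _ = 1 := by rw [h4]; group
      rw [h5, orderOf_one] at hwo
      norm_num at hwo
    · rw [← hh] at h4
      exact (mul_left_cancel (mul_right_cancel h4)).symm
  have h4 : g⁻¹ * v * g = g⁻¹ * w * g := congrArg Subtype.val h3
  exact mul_left_cancel (mul_right_cancel h4)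

/-- type B: the elementary abelian 2-subgroups -/
theorem card_le_two {x : MG} (hx : orderOf x = 13)
    (hz : ∃ g : MG, (g * KDone.K.z * g⁻¹) * x = x * (g * KDone.K.z * g⁻¹))
    {A : Subgroup ↥(centralizer ({x} : Set MG))} (hA : ∀ a ∈ A, a * a = 1) : Nat.card ↥A ≤ 2 := by
  have hfin : Finite MG := finite
  by_contra hcon
  push Not at hcon
  classical
  have hex : ∀ S : Finset ↥A, S.card ≤ 2 → ∃ a : ↥A, a ∉ S := by
    intro S hS
    by_contra h
    push Not at h
    have := Fintype.ofFinite ↥A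
    have h1 : S = Finset.univ := Finset.eq_univ_of_forall h
    rw [h1, Finset.card_univ, ← Nat.card_eq_fintype_card] at hS
    omega
  obtain ⟨t, ht⟩ := hex {1} (by rw [Finset.card_singleton]; norm_num)
  obtain ⟨d, hd⟩ := hex {1, t} Finset.card_le_two
  simp only [Finset.mem_insert, Finset.mem_singleton, not_or] at ht hd
  have hord : ∀ a : ↥A, a ≠ 1 → orderOf ((a : ↥(centralizer ({x} : Set MG))) : MG) = 2 := by
    intro a ha
    refine orderOf_eq_prime ?_ ?_
    · rw [pow_two]
      exact congrArg Subtype.val (hA a a.2)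
    · intro h
      exact ha (Subtype.ext (Subtype.ext h))
  have hc : (t : ↥(centralizer ({x} : Set MG))) * d = d * t := by
    have h1 := hA (t * d) (mul_mem t.2 d.2)
    have h2 := hA t t.2
    have h3 := hA d d.2
    calc (t : ↥(centralizer ({x} : Set MG))) * d = t * (t * d * (t * d)) * d := by rw [h1, mul_one]
      _ = (t * t) * (d * t) * (d * d) := by group
      _ = d * t := by rw [h2, h3, one_mul, mul_one]
  apply hd.2
  apply Subtype.ext
  apply Subtype.ext
  exact (eq_of_comm hx hz (hord t ht) (hord d hd.1) (congrArg Subtype.val hc)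
    (mem_centralizer_singleton_iff.1 (t : ↥(centralizer ({x} : Set MG))).2)
    (mem_centralizer_singleton_iff.1 (d : ↥(centralizer ({x} : Set MG))).2)).symm

/-- **The elementary abelian 2-subgroups of `C(x)` have order less than 8.** -/
theorem rank {x : MG} (hx : orderOf x = 13) (A : Subgroup ↥(centralizer ({x} : Set MG))) (hA : ∀ a ∈ A, a * a = 1) :
    Nat.card A < 8 := by
  by_cases hz : ∃ g : MG, (g * KDone.K.z * g⁻¹) * x = x * (g * KDone.K.z * g⁻¹)
  · exact (card_le_two hx hz hA).trans_lt (by norm_num)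
  · push Not at hz
    exact MThirteen.TwoARow.card_lt hz hA

theorem noTwo {x : MG} (hx : orderOf x = 13) : BpSpor.MBig.NoTwo 13 ↥(centralizer ({x} : Set MG)) := by
  have hfin : Finite MG := finite
  intro A hA m hm1 hmd
  have h1 := rank hx A hA
  have h2 := Nat.le_of_dvd Nat.card_pos hmd
  have h3 : m < 3 := (Nat.pow_lt_pow_iff_right (a := 2) (by norm_num)).1 (by omega)
  interval_cases m <;> norm_num

/-- an element of order 13 commuting with a four-group -/
theorem four : ∃ x t w : MG, orderOf x = 13 ∧ orderOf t = 2 ∧ orderOf w = 2 ∧ t ≠ w ∧ t * w = w * t ∧ x * t = t * x ∧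
    x * w = w * x := by
  obtain ⟨x, u, v, hx, hu, hv, huv, hc, hux, hvx⟩ := H666.SporM.exists_four LitFin.all KDone.lnk KDone.lft
    (TauInst.tauHyp (Final.cent InstanceFinal.mOrbit Instance.mTrans)) (NodesGrp.prel LitFin.H)
    (NodesNe.ne LitFin.H) LitFin.conj_ten (p := 13) (by norm_num) (by norm_num) (by norm_num)
  exact ⟨x, u, v, hx, hu, hv, huv, hc, hux.symm, hvx.symm⟩

/-- an element of order 13 commuting with `z` -/
theorem exists_b : ∃ b : MG, orderOf b = 13 ∧ zz * b = b * zz := by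
  have hfin : Finite MG := finite
  have h13 : Fact (Nat.Prime 13) := ⟨by norm_num⟩
  have hd : 13 ∣ Nat.card ↥(centralizer ({zz} : Set MG)) := by rw [card_cent_z]; norm_num
  obtain ⟨b, hb⟩ := exists_prime_orderOf_dvd_card' 13 hd
  exact ⟨b, by rw [Subgroup.orderOf_coe, hb], (mem_centralizer_singleton_iff.1 b.2).symm⟩

/-- a noncyclic subgroup of order `13²` -/
theorem sq : ∃ E : Subgroup MG, Nat.card E = 13 ^ 2 ∧ ¬ IsCyclic E := by
  have hfin : Finite MG := finite
  have h13 : Fact (Nat.Prime 13) := ⟨by norm_num⟩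
  obtain ⟨x, t, w, hx, ht, hw, hne, htw, hxt, hxw⟩ := four
  obtain ⟨b, hb, hbz⟩ := exists_b
  refine exists_sq hx hb fun g hg => hne (eq_of_comm hx ?_ ht hw htw hxt.symm hxw.symm)
  obtain ⟨k, hk⟩ := hg
  have hk' : (g * b * g⁻¹) ^ k = x := hk
  refine ⟨g, ?_⟩
  rw [← hk']
  have h1 : Commute (g * KDone.K.z * g⁻¹) (g * b * g⁻¹) := conj_comm g hbz
  exact (h1.zpow_right k).eq

theorem two : F2 2 13 2 MG := fun _ ht => not_sq (Or.inr rfl) ht

theorem setup : Setup 13 MG := ⟨two, fun _ hx => noTwo hx, sq, four⟩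

open Cfsg.Agent.H998.StrP (NoSP)

/-- **The model.** -/
theorem nosp_model (Tb : OrdDiv.OrderTable.{0}) (hS : ∀ (G : Type) [Group G] [Finite G] [IsSimpleGroup G], IsKnownSimple' G) :
    NoSP 13 MG := by
  have hfin : Finite MG := finite
  exact noSP_thirteen (fun K _ _ h => Cfsg.Agent.S0205.result h) Tb hS card_M setup (fun x hx A hA => rank hx A hA)
    (fun x y v hx hy hv hyv => H3.M13C.no_triple hx hy hv hyv)

/-- **The Monster has no strongly 13-embedded subgroup.** -/
theorem nosp_m_13 (Tb : OrdDiv.OrderTable.{0}) (hS : ∀ (G : Type) [Group G] [Finite G] [IsSimpleGroup G], IsKnownSimple' G)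
    {G : Type*} [Group G] [Finite G] (h : Spor.IsoM G) : NoSP 13 G := by
  have hfin : Finite MG := finite
  have h13 : Fact (Nat.Prime 13) := ⟨by norm_num⟩
  obtain ⟨e⟩ := h
  obtain ⟨e'⟩ := MonsterP.Equiv.equiv
  exact (nosp_model Tb hS).congr (e.trans e')

end Cfsg.Agent.H154.StrP.M13
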