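import Cfsg.Agent.H154.StrP.Struct
import Cfsg.Agent.H746.MEleven.Struct
import Cfsg.Agent.H777.PGrp
import Cfsg.Agent.H57.TTOut

/-!
# Strongly `p`-embedded subgroups, structural method: the case `O_p(X) ≠ 1` (helper154)

* `pCore_eq_zpowers` : `O_p(X) = ⟨x⟩` if `x` of order `p` commutes with a four-group;
* `exists_simple_quot` : then `C_X(x) / ⟨x⟩` has a simple normal subgroup with trivial centraliser;
* `one_dvd`, `two_dvd` : bounds for the order in the conclusions of `struct`.
-/

set_option autoImplicit false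

namespace Cfsg.Agent.H154.StrP

open Cfsg Subgroup Cfsg.Agent.Lib

universe u

variable {X : Type u} [Group X] [Finite X] {p : ℕ} [hp : Fact p.Prime]

theorem zpowers_le_zpowers_of_mem {x c : X} (hx : orderOf x = p) (hc : c ∈ zpowers x) (hc1 : c ≠ 1) :
    x ∈ zpowers c := by
  have h1 : Nat.card ↥(zpowers x) = p := by rw [Nat.card_zpowers, hx]
  have h2 : zpowers c ≤ zpowers x := zpowers_le.2 hc
  have h3 : zpowers c = zpowers x := by
    refine eq_of_le_of_card_ge h2 ?_
    have h4 : Nat.card ↥(zpowers c) ∣ p := by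
      rw [← h1]
      exact card_dvd_of_le h2
    rcases (Nat.dvd_prime hp.out).1 h4 with h5 | h5
    · exact absurd (zpowers_eq_bot.1 (card_eq_one.1 h5)) hc1
    · rw [h1, h5]
  rw [h3]
  exact mem_zpowers x

/-- a nontrivial normal subgroup of `X` in a Sylow subgroup meets its centre -/
theorem exists_central {N : Subgroup X} (hNn : N.Normal) (hN : N ≠ ⊥) (P : Sylow p X) (hNP : N ≤ (P : Subgroup X)) :
    ∃ c ∈ N, c ≠ 1 ∧ ∀ g ∈ (P : Subgroup X), g * c = c * g := by
  have h1 : N.subgroupOf (P : Subgroup X) ≠ ⊥ := by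
    intro h
    rw [subgroupOf_eq_bot, disjoint_iff, inf_eq_left.2 hNP] at h
    exact hN h
  obtain ⟨c, hc, hc1, hcc⟩ := H777.PGrp.inf_center_ne_bot P.2 h1 (by infer_instance)
  refine ⟨c, mem_subgroupOf.1 hc, fun h => hc1 (Subtype.ext h), fun g hg => ?_⟩
  exact congrArg Subtype.val (hcc ⟨g, hg⟩)

/-- **`O_p(X) = ⟨x⟩`.** -/
theorem pCore_eq_zpowers (hp2 : p ≠ 2) {x v w : X} (hx : orderOf x = p) (hv : v * v = 1) (hw : w * w = 1)
    (hc : v * w = w * v) (hv1 : v ≠ 1) (hw1 : w ≠ 1) (hvw : v ≠ w) (hxv : x * v = v * x) (hxw : x * w = w * x)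
    (ha : F2 2 p 2 X) (hN : pCore p X ≠ ⊥) : pCore p X = zpowers x := by
  have hNn : (pCore p X).Normal := Cores.pCore_normal p
  have hNp : IsPGroup p ↥(pCore p X) := Cores.pCore_isPGroup p
  have hxp : IsPGroup p ↥(zpowers x) := IsPGroup.of_card (n := 1) (by rw [Nat.card_zpowers, hx, pow_one])
  obtain ⟨P, hP⟩ := hxp.exists_le_sylow
  have hNP : pCore p X ≤ (P : Subgroup X) := Cores.pCore_le_sylow P
  have hxP : x ∈ (P : Subgroup X) := hP (mem_zpowers x)
  obtain ⟨c, hcN, hc1, hcP⟩ := exists_central hNn hN P hNP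
  -- the fixed points of `x`
  have key : pCore p X ⊓ centralizer ({x} : Set X) ≤ zpowers x := by
    refine le_zpowers_of_four hp2 hx hv hw hc hv1 hw1 hvw hxv hxw ha (hNp.to_le inf_le_left) inf_le_right ?_ ?_
    all_goals
      rw [mem_normalizer_iff]
      intro g
    · constructor
      · rintro ⟨h1, h2⟩
        refine ⟨hNn.conj_mem _ h1 v, mem_centralizer_singleton_iff.2 ?_⟩
        have h3 := mem_centralizer_singleton_iff.1 h2
        have hvi : v⁻¹ = v := inv_eq_of_mul_eq_one_left hv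
        rw [hvi]
        calc v * g * v * x = v * g * (v * x) := by group
          _ = v * g * (x * v) := by rw [hxv]
          _ = v * (g * x) * v := by group
          _ = (v * x) * g * v := by rw [h3]; group
          _ = x * (v * g * v) := by rw [← hxv]; group
      · rintro ⟨h1, h2⟩
        have hvi : v⁻¹ = v := inv_eq_of_mul_eq_one_left hv
        have h4 := hNn.conj_mem _ h1 v⁻¹
        have e : v⁻¹ * (v * g * v⁻¹) * v⁻¹⁻¹ = g := by group
        rw [e] at h4
        refine ⟨h4, mem_centralizer_singleton_iff.2 ?_⟩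
        have h3 := mem_centralizer_singleton_iff.1 h2
        have hxv' : v⁻¹ * x = x * v⁻¹ := by rw [hvi, hxv]
        calc g * x = v⁻¹ * (v * g * v⁻¹) * (v * x) := by group
          _ = v⁻¹ * ((v * g * v⁻¹) * x) * v := by rw [← hxv]; group
          _ = (v⁻¹ * x) * (v * g * v⁻¹) * v := by rw [h3]; group
          _ = x * g := by rw [hxv']; group
    · constructor
      · rintro ⟨h1, h2⟩
        refine ⟨hNn.conj_mem _ h1 w, mem_centralizer_singleton_iff.2 ?_⟩
        have h3 := mem_centralizer_singleton_iff.1 h2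
        have hvi : w⁻¹ = w := inv_eq_of_mul_eq_one_left hw
        rw [hvi]
        calc w * g * w * x = w * g * (w * x) := by group
          _ = w * g * (x * w) := by rw [hxw]
          _ = w * (g * x) * w := by group
          _ = (w * x) * g * w := by rw [h3]; group
          _ = x * (w * g * w) := by rw [← hxw]; group
      · rintro ⟨h1, h2⟩
        have hvi : w⁻¹ = w := inv_eq_of_mul_eq_one_left hw
        have h4 := hNn.conj_mem _ h1 w⁻¹
        have e : w⁻¹ * (w * g * w⁻¹) * w⁻¹⁻¹ = g := by group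
        rw [e] at h4
        refine ⟨h4, mem_centralizer_singleton_iff.2 ?_⟩
        have h3 := mem_centralizer_singleton_iff.1 h2
        have hxv' : w⁻¹ * x = x * w⁻¹ := by rw [hvi, hxw]
        calc g * x = w⁻¹ * (w * g * w⁻¹) * (w * x) := by group
          _ = w⁻¹ * ((w * g * w⁻¹) * x) * w := by rw [← hxw]; group
          _ = (w⁻¹ * x) * (w * g * w⁻¹) * w := by rw [h3]; group
          _ = x * g := by rw [hxv']; group
  have h1 : c ∈ zpowers x := key ⟨hcN, mem_centralizer_singleton_iff.2 (hcP x hxP).symm⟩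
  have h2 : x ∈ zpowers c := zpowers_le_zpowers_of_mem hx h1 hc1
  have hxN : x ∈ pCore p X := (zpowers_le.2 hcN) h2
  refine le_antisymm ?_ (zpowers_le.2 hxN)
  refine le_trans (le_inf le_rfl ?_) key
  intro n hn
  rw [mem_centralizer_singleton_iff]
  obtain ⟨k, hk⟩ := h2
  have hk' : c ^ k = x := hk
  rw [← hk']
  exact (Commute.zpow_right (show Commute n c from hcP n (hNP hn)) k).eq

/-- if `⟨x⟩` is normal, then the Sylow subgroups commute with `x` -/
theorem sylow_le_centralizer {x : X} (hx : orderOf x = p) (hn : (zpowers x).Normal) (P : Sylow p X) :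
    (P : Subgroup X) ≤ centralizer ({x} : Set X) := by
  have hxp : IsPGroup p ↥(zpowers x) := IsPGroup.of_card (n := 1) (by rw [Nat.card_zpowers, hx, pow_one])
  have hxP : zpowers x ≤ (P : Subgroup X) := (Cores.le_pCore hn hxp).trans (Cores.pCore_le_sylow P)
  have hne : zpowers x ≠ ⊥ := by
    rw [Ne, zpowers_eq_bot]
    rintro rfl
    rw [orderOf_one] at hx
    exact hp.out.one_lt.ne hx
  obtain ⟨c, hcN, hc1, hcP⟩ := exists_central hn hne P hxP
  obtain ⟨k, hk⟩ := zpowers_le_zpowers_of_mem hx hcN hc1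
  have hk' : c ^ k = x := hk
  intro g hg
  rw [mem_centralizer_singleton_iff, ← hk']
  exact (Commute.zpow_right (show Commute g c from hcP g hg) k).eq

theorem cent_zpowers {G : Type*} [Group G] (s : G) :
    centralizer ((zpowers s : Subgroup G) : Set G) = centralizer ({s} : Set G) := by
  rw [zpowers_eq_closure, centralizer_closure]

/-- an involution of the quotient by a central subgroup of order `p` and its centraliser -/
theorem F2.central (hp2 : p ≠ 2) {x : X} (hx : orderOf x = p) (hxc : x ∈ center X) [hxn : (zpowers x).Normal]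
    (ha : F2 2 p 2 X) : F2 2 p 1 (X ⧸ zpowers x) := by
  have h2f : Fact (Nat.Prime 2) := ⟨Nat.prime_two⟩
  intro t ht hd
  rw [pow_one] at hd
  obtain ⟨u, rfl⟩ := QuotientGroup.mk'_surjective (zpowers x) t
  have hu2 : u ^ 2 ∈ zpowers x := by
    rw [← QuotientGroup.eq_one_iff]
    have : (QuotientGroup.mk' (zpowers x) u) ^ 2 = 1 := by rw [← ht, pow_orderOf_eq_one]
    rw [← map_pow] at this
    exact this
  set s := u ^ p with hs
  have hodd : Odd p := hp.out.odd_of_ne_two hp2
  have hsu : QuotientGroup.mk' (zpowers x) s = QuotientGroup.mk' (zpowers x) u := by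
    obtain ⟨k, hk⟩ := hodd
    have h2 : (QuotientGroup.mk' (zpowers x) u) ^ 2 = 1 := by rw [← ht, pow_orderOf_eq_one]
    rw [hs, hk, map_pow, pow_succ, pow_mul, h2, one_pow, one_mul]
  have hs2 : s ^ 2 = 1 := by
    obtain ⟨k, hk⟩ := hu2
    have hk' : x ^ k = u ^ 2 := hk
    rw [hs, ← pow_mul, mul_comm, pow_mul, ← hk', ← zpow_natCast, ← zpow_mul, mul_comm, zpow_mul, zpow_natCast, ← hx,
      pow_orderOf_eq_one, one_zpow]
  have hs1 : s ≠ 1 := by
    intro h
    rw [h, map_one] at hsu
    rw [← hsu, orderOf_one] at ht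
    norm_num at ht
  have hso : orderOf s = 2 := orderOf_eq_prime hs2 hs1
  refine ha s hso ?_
  have hcop : (Nat.card ↥(zpowers x)).Coprime 2 := by
    rw [Nat.card_zpowers, hx]
    exact (Nat.coprime_primes hp.out Nat.prime_two).2 hp2
  have hsp : IsPGroup 2 ↥(zpowers s) := IsPGroup.of_card (n := 1) (by rw [Nat.card_zpowers, hso, pow_one])
  have h1 := PLocal.CoprimeLift.map_centralizer_mk (zpowers x) (zpowers s) hcop hsp
  have e1 : centralizer ((zpowers s : Subgroup X) : Set X) = centralizer ({s} : Set X) := cent_zpowers s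
  have e2 : centralizer (((zpowers s).map (QuotientGroup.mk' (zpowers x)) : Subgroup (X ⧸ zpowers x)) :
      Set (X ⧸ zpowers x)) = centralizer ({QuotientGroup.mk' (zpowers x) u} : Set (X ⧸ zpowers x)) := by
    rw [MonoidHom.map_zpowers, cent_zpowers, hsu]
  rw [e1, e2] at h1
  rw [← h1] at hd
  -- the order of the centralizer
  have hle : zpowers x ≤ centralizer ({s} : Set X) := by
    rw [zpowers_le, mem_centralizer_singleton_iff]
    exact ((mem_center_iff.1 hxc) s).symm
  have h2 : ((centralizer ({s} : Set X)).map (QuotientGroup.mk' (zpowers x))).comap (QuotientGroup.mk' (zpowers x)) =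
      centralizer ({s} : Set X) := by
    apply comap_map_eq_self
    rw [QuotientGroup.ker_mk']
    exact hle
  have h3 : Nat.card ↥(((centralizer ({s} : Set X)).map (QuotientGroup.mk' (zpowers x))).comap
      (QuotientGroup.mk' (zpowers x))) = Nat.card (zpowers x) *
      Nat.card ↥((centralizer ({s} : Set X)).map (QuotientGroup.mk' (zpowers x))) :=
    QuotientGroup.card_preimage_mk (zpowers x)
      (((centralizer ({s} : Set X)).map (QuotientGroup.mk' (zpowers x)) : Subgroup _) : Set (X ⧸ zpowers x))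
  rw [h2, Nat.card_zpowers, hx] at h3
  rw [h3, pow_two]
  exact Nat.mul_dvd_mul_left p hd

/-- **The simple group in `C_X(x) / ⟨x⟩`.** -/
theorem exists_simple_quot (FT : ∀ (K : Type u) [Group K] [Finite K], Odd (Nat.card K) → Group.IsSolvable K)
    (hp2 : p ≠ 2) {x : X} (hx : orderOf x = p) (hO' : pPrimeCore p X = ⊥) (hO : pCore p X = zpowers x)
    (ha : F2 2 p 2 X) (hsq : p ^ 2 ∣ Nat.card X) (hxm : x ∈ centralizer ({x} : Set X))
    [hxn : (zpowers (⟨x, hxm⟩ : ↥(centralizer ({x} : Set X)))).Normal] :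
    F2 2 p 1 (↥(centralizer ({x} : Set X)) ⧸ zpowers (⟨x, hxm⟩ : ↥(centralizer ({x} : Set X)))) ∧
      One p (↥(centralizer ({x} : Set X)) ⧸ zpowers (⟨x, hxm⟩ : ↥(centralizer ({x} : Set X)))) ∧
      ∀ n, p ^ (n + 1) ∣ Nat.card X →
        p ^ n ∣ Nat.card (↥(centralizer ({x} : Set X)) ⧸ zpowers (⟨x, hxm⟩ : ↥(centralizer ({x} : Set X)))) := by
  have hZn : (zpowers x).Normal := hO ▸ Cores.pCore_normal p
  have hCn : (centralizer ({x} : Set X)).Normal := by
    rw [← cent_zpowers]
    infer_instance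
  have hx' : orderOf (⟨x, hxm⟩ : ↥(centralizer ({x} : Set X))) = p := by rw [Subgroup.orderOf_mk, hx]
  have hxc : (⟨x, hxm⟩ : ↥(centralizer ({x} : Set X))) ∈ center ↥(centralizer ({x} : Set X)) := by
    rw [mem_center_iff]
    intro g
    exact Subtype.ext (mem_centralizer_singleton_iff.1 g.2)
  have h1 : pPrimeCore p ↥(centralizer ({x} : Set X)) = ⊥ := by
    rw [← map_eq_bot_iff_of_injective _ (centralizer ({x} : Set X)).subtype_injective,
      Cores.map_subtype_pPrimeCore p hCn, hO', inf_bot_eq]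
  have h2 : pCore p ↥(centralizer ({x} : Set X)) = zpowers ⟨x, hxm⟩ := by
    apply Subgroup.map_injective (centralizer ({x} : Set X)).subtype_injective
    rw [Cores.map_subtype_pCore p hCn, hO, MonoidHom.map_zpowers]
    show centralizer ({x} : Set X) ⊓ zpowers x = zpowers x
    rw [inf_eq_right, zpowers_le]
    exact hxm
  have hF := (ha.sub (centralizer ({x} : Set X))).central hp2 hx' hxc
  have h3 := H746.MEleven.quot_pPrimeCore hx' hxc h1
  have hxp : IsPGroup p ↥(zpowers (⟨x, hxm⟩ : ↥(centralizer ({x} : Set X)))) :=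
    IsPGroup.of_card (n := 1) (by rw [Nat.card_zpowers, hx', pow_one])
  have h4 : pCore p (↥(centralizer ({x} : Set X)) ⧸ zpowers (⟨x, hxm⟩ : ↥(centralizer ({x} : Set X)))) = ⊥ := by
    have h5 := Cores.comap_mk_pCore p hxp
    rw [h2] at h5
    have h6 := congrArg (Subgroup.map (QuotientGroup.mk' (zpowers (⟨x, hxm⟩ : ↥(centralizer ({x} : Set X)))))) h5
    rw [map_comap_eq_self_of_surjective (QuotientGroup.mk'_surjective _)] at h6
    rw [h6, Subgroup.map_eq_bot_iff, QuotientGroup.ker_mk']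
  have hcd : ∀ n, p ^ (n + 1) ∣ Nat.card X →
      p ^ n ∣ Nat.card (↥(centralizer ({x} : Set X)) ⧸ zpowers (⟨x, hxm⟩ : ↥(centralizer ({x} : Set X)))) := by
    intro n hn
    obtain ⟨P⟩ : Nonempty (Sylow p X) := inferInstance
    have h5 : p ^ (n + 1) ∣ Nat.card ↥(centralizer ({x} : Set X)) :=
      (P.pow_dvd_card_of_pow_dvd_card hn).trans (card_dvd_of_le (sylow_le_centralizer hx hZn P))
    rw [card_eq_card_quotient_mul_card_subgroup (zpowers (⟨x, hxm⟩ : ↥(centralizer ({x} : Set X)))), Nat.card_zpowers,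
      hx', pow_succ] at h5
    exact Nat.dvd_of_mul_dvd_mul_right hp.out.pos h5
  have hd := hcd 1 hsq
  rw [pow_one] at hd
  refine ⟨hF, ?_, hcd⟩
  rcases struct FT h3 h4 hd (hF.mono one_le_two) with h5 | h5
  · exact h5
  · exfalso
    obtain ⟨E₁, E₂, -, -, hs2, -, hn2, hcomm, -, -, hd1, -⟩ := h5
    have h2f : Fact (Nat.Prime 2) := ⟨Nat.prime_two⟩
    have hev : 2 ∣ Nat.card ↥E₂ := by
      rw [← even_iff_two_dvd]
      by_contra ho
      rw [Nat.not_even_iff_odd] at ho
      have h6 := FT ↥E₂ ho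
      apply hn2
      have h7 := IsSimpleGroup.comm_iff_isSolvable.2 h6
      exact ⟨⟨h7⟩⟩
    obtain ⟨⟨v, hvE⟩, hv⟩ := exists_prime_orderOf_dvd_card' (G := E₂) 2 hev
    rw [Subgroup.orderOf_mk] at hv
    refine hF v hv ?_
    rw [pow_one]
    refine hd1.trans (card_dvd_of_le fun g hg => ?_)
    exact mem_centralizer_singleton_iff.2 (hcomm g hg v hvE)

theorem center_bot {T : Type u} [Group T] [IsSimpleGroup T] (hna : ¬ IsMulCommutative T) : center T = ⊥ := by
  rcases (inferInstance : (center T).Normal).eq_bot_or_eq_top with h | h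
  · exact h
  · exfalso
    apply hna
    refine ⟨⟨fun a b => ?_⟩⟩
    have h1 : a ∈ center T := h ▸ mem_top a
    exact (mem_center_iff.1 h1 b).symm

/-- the bound for the case of one component -/
theorem one_dvd {E : Subgroup X} (hE : E.Normal) [IsSimpleGroup ↥E] (hna : ¬ IsMulCommutative ↥E)
    (hc : centralizer (E : Set X) = ⊥) : Nat.card X ∣ Nat.card ↥E * Nat.card (Cfsg.Out ↥E) := by
  rw [← H57.TTOut.card_mulAut (center_bot hna)]
  exact card_dvd_of_injective _ (H57.TTOut.conj_injective hc)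

/-- the bound for the case of two components -/
theorem two_dvd (hp2 : p ≠ 2) {E₁ E₂ : Subgroup X} [IsSimpleGroup ↥E₁] [IsSimpleGroup ↥E₂]
    (h1 : ¬ IsMulCommutative ↥E₁) (h2 : ¬ IsMulCommutative ↥E₂)
    (hc : centralizer ((E₁ ⊔ E₂ : Subgroup X) : Set X) = ⊥)
    (hg : ∀ g : X, (E₁.map (MulAut.conj g).toMonoidHom = E₁ ∧ E₂.map (MulAut.conj g).toMonoidHom = E₂) ∨
      (E₁.map (MulAut.conj g).toMonoidHom = E₂ ∧ E₂.map (MulAut.conj g).toMonoidHom = E₁)) (P : Sylow p X) :
    Nat.card P ∣ (Nat.card ↥E₁ * Nat.card (Cfsg.Out ↥E₁)) * (Nat.card ↥E₂ * Nat.card (Cfsg.Out ↥E₂)) := by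
  have key : ∀ g ∈ (P : Subgroup X), g ∈ normalizer (E₁ : Set X) ∧ g ∈ normalizer (E₂ : Set X) := by
    intro g hgP
    obtain ⟨n, hn⟩ := (IsPGroup.iff_orderOf.1 P.isPGroup') ⟨g, hgP⟩
    rw [Subgroup.orderOf_mk] at hn
    have hodd : Odd (p ^ n) := (hp.out.odd_of_ne_two hp2).pow
    obtain ⟨k, hk⟩ := hodd
    have hgg : g = (g ^ 2) ^ (k + 1) := by
      rw [← pow_mul, show 2 * (k + 1) = (2 * k + 1) + 1 by ring, ← hk, ← hn, pow_succ, pow_orderOf_eq_one, one_mul]
    have hsq : ∀ E : Subgroup X, E.map (MulAut.conj (g ^ 2)).toMonoidHom = E → g ^ 2 ∈ normalizer (E : Set X) := by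
      intro E hE
      rw [mem_normalizer_iff]
      intro h
      constructor
      · intro hh
        rw [← hE]
        exact ⟨h, hh, rfl⟩
      · intro hh
        rw [← hE] at hh
        obtain ⟨h', hh', e⟩ := hh
        have e' : g ^ 2 * h' * (g ^ 2)⁻¹ = g ^ 2 * h * (g ^ 2)⁻¹ := e
        have : h' = h := mul_left_cancel (mul_right_cancel e')
        rwa [← this]
    have hcomp : ∀ E F D : Subgroup X, E.map (MulAut.conj g).toMonoidHom = F → F.map (MulAut.conj g).toMonoidHom = D →
        E.map (MulAut.conj (g ^ 2)).toMonoidHom = D := by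
      rintro E _ _ rfl rfl
      rw [Subgroup.map_map]
      congr 1
      ext a
      show g ^ 2 * a * (g ^ 2)⁻¹ = g * (g * a * g⁻¹) * g⁻¹
      rw [pow_two]
      group
    have h3 : g ^ 2 ∈ normalizer (E₁ : Set X) ∧ g ^ 2 ∈ normalizer (E₂ : Set X) := by
      rcases hg g with ⟨h3, h4⟩ | ⟨h3, h4⟩
      · exact ⟨hsq _ (hcomp _ _ _ h3 h3), hsq _ (hcomp _ _ _ h4 h4)⟩
      · exact ⟨hsq _ (hcomp _ _ _ h3 h4), hsq _ (hcomp _ _ _ h4 h3)⟩
    rw [hgg]
    exact ⟨pow_mem h3.1 _, pow_mem h3.2 _⟩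
  have hP1 : (P : Subgroup X) ≤ normalizer (E₁ : Set X) := fun g hg' => (key g hg').1
  have hP2 : (P : Subgroup X) ≤ normalizer (E₂ : Set X) := fun g hg' => (key g hg').2
  let f : ↥(P : Subgroup X) →* MulAut ↥E₁ × MulAut ↥E₂ :=
    ((E₁.normalizerMonoidHom).comp (inclusion hP1)).prod ((E₂.normalizerMonoidHom).comp (inclusion hP2))
  have hf : Function.Injective f := by
    rw [injective_iff_map_eq_one]
    intro g hg1
    have e1 : E₁.normalizerMonoidHom (inclusion hP1 g) = 1 := congrArg Prod.fst hg1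
    have e2 : E₂.normalizerMonoidHom (inclusion hP2 g) = 1 := congrArg Prod.snd hg1
    have hcen : ∀ (E : Subgroup X) (hE : (P : Subgroup X) ≤ normalizer (E : Set X)),
        E.normalizerMonoidHom (inclusion hE g) = 1 → E ≤ centralizer ({(g : X)} : Set X) := by
      intro E hE h a ha
      have h5 := congrArg Subtype.val (DFunLike.congr_fun h ⟨a, ha⟩)
      have h6 : (g : X) * a * (g : X)⁻¹ = a := h5
      rw [mem_centralizer_singleton_iff]
      exact (mul_inv_eq_iff_eq_mul.1 h6).symm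
    have h5 : E₁ ⊔ E₂ ≤ centralizer ({(g : X)} : Set X) := sup_le (hcen E₁ hP1 e1) (hcen E₂ hP2 e2)
    have h6 : (g : X) ∈ centralizer ((E₁ ⊔ E₂ : Subgroup X) : Set X) := by
      rw [mem_centralizer_iff]
      intro a ha
      exact mem_centralizer_singleton_iff.1 (h5 ha)
    rw [hc, mem_bot] at h6
    exact Subtype.ext h6
  rw [← H57.TTOut.card_mulAut (center_bot h1), ← H57.TTOut.card_mulAut (center_bot h2), ← Nat.card_prod]
  exact card_dvd_of_injective f hf

end Cfsg.Agent.H154.StrP
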