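import Cfsg.Agent.LThreeFi23.Base
import Cfsg.Agent.H52.StrLink

/-!
# `Fi23` has no strongly `5`-embedded subgroup

`x = z0 j g f` and `y = a b c d` are commuting elements of order 5 (products of transpositions); every generator but `e`
commutes with `x` or with `y`, and `e` is the conjugate of `b` by a product of three transpositions commuting with `y`
resp. with `x y`.
-/

set_option autoImplicit false
set_option maxRecDepth 100000
set_option linter.constructorNameAsVariable false

namespace Cfsg.Agent.H154.StrP.Fi23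

open Cfsg Cfsg.Agent.LThreeFi23 Cfsg.Agent.H52.StrLink Cfsg.Agent.H998.StrP Cfsg.Agent.Lib.PermNet
open Cfsg.Agent.Fischer.Fi23Hom (rho gen)
open Cfsg.Spor (Fi23)
open Cfsg.Spor.Fi23 (Gen)

def x5 : List Lt := [.z, .j, .g, .f]
def y5 : List Lt := [.a, .b, .c, .d]

def rep (w : List Lt) (m : ℕ) : List Lt := Nat.rec [] (fun _ ih => w ++ ih) m

theorem elw_rep (w : List Lt) (m : ℕ) : elw (rep w m) = elw w ^ m := by
  induction m with
  | zero => rw [pow_zero]; rfl
  | succ m ih =>
    change elw (w ++ rep w m) = _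
    rw [elw_append, ih, pow_succ']

theorem pow_of {w : List Lt} {n : ℕ} (h : checkEq 15 (ntw (rep w n)) [] = true) : elw w ^ n = 1 := by
  rw [← elw_rep]
  have h1 : elw (rep w n) = elw [] := elw_eq_of_checkEq h
  rw [h1, elw_nil]

theorem ne_one_of {w : List Lt} {p q : ℕ} (h : Nat.beq (ptw w p) q = true) (hpq : p ≠ q) : elw w ≠ 1 := by
  intro h1
  have h2 := Nat.eq_of_beq_eq_true h
  rw [ptw_eq, h1, map_one] at h2
  exact hpq h2

/-- The transposition of the point `ptw w (pt k)`. -/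
theorem T_word {w : List Lt} {k : Lt} {p : ℕ} (h : Nat.beq (ptw w (pt k)) p = true) :
    T p = elw (w ++ k :: w.reverse) := by
  have h1 := Nat.eq_of_beq_eq_true h
  rw [ptw_eq] at h1
  rw [← h1, T_act _ (pt_lt _), T_pt, elw_append, elw_cons, elw_reverse, mul_assoc]

theorem mem_of_pt {x y : Fi23} (hl : Lk ⊤ 5 x y) {p : ℕ} (hp : p < 31671) (h : rho y p = p) :
    T p ∈ Stab ⊤ 5 x := mem_of_commute hl ((fix_iff y hp).1 h).symm

def u1 : List Lt := [.i, .e, .d, .h, .c, .b, .d, .c, .e, .d, .h, .j, .g, .f, .e, .d, .c, .b]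
def u2 : List Lt := [.c, .e, .d, .h, .i, .b, .c, .d, .h, .a, .b, .f, .e, .d, .c, .g, .f, .e, .d, .h, .i, .b, .e, .d, .c, .f, .e, .d, .h, .j,
  .g, .f, .e, .d, .c, .b]
def u3 : List Lt := [.b, .c, .f, .e, .d, .h, .d, .c, .b, .f, .e, .d, .c, .g, .f, .e, .d, .h, .i, .b, .d, .c, .f, .e, .d, .h, .j, .g, .f, .e,
  .d, .c, .b]

theorem x5_pow : elw x5 ^ 5 = 1 := pow_of (by decide +kernel)
theorem y5_pow : elw y5 ^ 5 = 1 := pow_of (by decide +kernel)

theorem comm : Commute (elw x5) (elw y5) := by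
  have h : elw (x5 ++ y5) = elw (y5 ++ x5) := elw_eq_of_checkEq (by decide +kernel)
  rw [elw_append, elw_append] at h
  exact h

theorem fixed {w : List Lt} {p : ℕ} (h : Nat.beq (ptw w p) p = true) : rho (elw w) p = p := by
  have h1 := Nat.eq_of_beq_eq_true h
  rwa [ptw_eq] at h1

theorem stab : Stab (⊤ : Subgroup Fi23) 5 (elw x5) = ⊤ := by
  have hx : El (⊤ : Subgroup Fi23) 5 (elw x5) :=
    ⟨Subgroup.mem_top _, ne_one_of (p := 0) (q := 8006) (by decide +kernel) (by decide), 1, by rw [pow_one]; exact x5_pow⟩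
  have hy : El (⊤ : Subgroup Fi23) 5 (elw y5) :=
    ⟨Subgroup.mem_top _, ne_one_of (p := 11589) (q := 8004) (by decide +kernel) (by decide), 1, by rw [pow_one]; exact y5_pow⟩
  have hxy : El (⊤ : Subgroup Fi23) 5 (elw (x5 ++ y5)) := by
    refine ⟨Subgroup.mem_top _, ne_one_of (p := 0) (q := 8006) (by decide +kernel) (by decide), 1, ?_⟩
    rw [pow_one, elw_append, comm.mul_pow, x5_pow, y5_pow, one_mul]
  have l1 : Lk (⊤ : Subgroup Fi23) 5 (elw x5) (elw x5) := Lk.refl _
  have l2 : Lk (⊤ : Subgroup Fi23) 5 (elw x5) (elw y5) := Lk.single hx hy comm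
  have l3 : Lk (⊤ : Subgroup Fi23) 5 (elw x5) (elw (x5 ++ y5)) := by
    refine Lk.single hx hxy ?_
    rw [elw_append]
    exact (Commute.refl _).mul_right comm
  set S := Stab (⊤ : Subgroup Fi23) 5 (elw x5) with hS
  have mx : ∀ k : Lt, Nat.beq (ptw x5 (pt k)) (pt k) = true → el k ∈ S := fun k hk => by
    rw [← T_pt k]; exact mem_of_pt l1 (pt_lt k) (fixed hk)
  have my : ∀ k : Lt, Nat.beq (ptw y5 (pt k)) (pt k) = true → el k ∈ S := fun k hk => by
    rw [← T_pt k]; exact mem_of_pt l2 (pt_lt k) (fixed hk)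
  have ma := mx .a (by decide +kernel)
  have mb := mx .b (by decide +kernel)
  have mc := mx .c (by decide +kernel)
  have md := mx .d (by decide +kernel)
  have mh := mx .h (by decide +kernel)
  have mi := mx .i (by decide +kernel)
  have mf := my .f (by decide +kernel)
  have mg := my .g (by decide +kernel)
  have mj := my .j (by decide +kernel)
  have m1 : T 1379 ∈ S := mem_of_pt l2 (by norm_num) (fixed (by decide +kernel))
  have m2 : T 24761 ∈ S := mem_of_pt l3 (by norm_num) (fixed (by decide +kernel))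
  have m3 : T 20649 ∈ S := mem_of_pt l3 (by norm_num) (fixed (by decide +kernel))
  have me : el .e ∈ S := by
    have h1 : T 1379 = elw (u1 ++ .a :: u1.reverse) := T_word (by decide +kernel)
    have h2 : T 24761 = elw (u2 ++ .a :: u2.reverse) := T_word (by decide +kernel)
    have h3 : T 20649 = elw (u3 ++ .a :: u3.reverse) := T_word (by decide +kernel)
    have h4 : rho (T 1379 * T 24761 * T 20649) (pt .b) = pt .e := by
      rw [h1, h2, h3, ← elw_append, ← elw_append, ← ptw_eq]
      exact Nat.eq_of_beq_eq_true (by decide +kernel)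
    have h5 : T (pt .e) = (T 1379 * T 24761 * T 20649) * T (pt .b) * (T 1379 * T 24761 * T 20649)⁻¹ := by
      rw [← T_act _ (pt_lt .b), h4]
    rw [← T_pt .e, h5, T_pt]
    have h6 := S.mul_mem (S.mul_mem m1 m2) m3
    exact S.mul_mem (S.mul_mem h6 mb) (S.inv_mem h6)
  rw [eq_top_iff, ← Cfsg.Agent.Fischer.Fi23Final.gens_top, Subgroup.closure_le]
  rintro _ ⟨s, rfl⟩
  cases s
  exacts [ma, mb, mc, md, me, mf, mg, mj, mh, mi]

theorem nosp_fi23_5 {G : Type*} [Group G] [Finite G] (h : Cfsg.Spor.IsoFi23 G) : NoSP 5 G := by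
  have : Fact (Nat.Prime 5) := ⟨by norm_num⟩
  have hs := nsimple
  have : IsSimpleGroup ↥(⊤ : Subgroup Fi23) := by
    have hn : Nontrivial ↥(⊤ : Subgroup Fi23) := Subgroup.topEquiv.toEquiv.nontrivial
    exact IsSimpleGroup.isSimpleGroup_of_surjective (Subgroup.topEquiv (G := Fi23)).symm.toMonoidHom
      (Subgroup.topEquiv (G := Fi23)).symm.surjective
  obtain ⟨e⟩ := h
  exact (noSP_of_link (N := (⊤ : Subgroup Fi23)) (x := elw x5)
    ⟨Subgroup.mem_top _, ne_one_of (p := 0) (q := 8006) (by decide +kernel) (by decide), 1,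
      by rw [pow_one]; exact x5_pow⟩ stab).congr (e.trans Subgroup.topEquiv.symm)

end Cfsg.Agent.H154.StrP.Fi23
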