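import Cfsg.Agent.H154.StrP.Core

/-!
# Strongly `p`-embedded subgroups, structural method: the general theorem (helper154)

`Setup p K` : what is needed about `K`. `Setup.main` : if `H` is strongly `p`-embedded in `K` and `p ^ (n+1)` divides `|K|`,
then there is a group `X` with `|X| ∣ |H|`, `p ^ (n+1) ∣ |X|` and `One p X ∨ Two p X`, or `C_K(x)` has, for some `x` of order
`p`, an image `Y` modulo a subgroup of odd order divisible by `p`, with `F2 2 p 1 Y`, `One p Y`, `p ^ n ∣ |Y|`.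
-/

set_option autoImplicit false

namespace Cfsg.Agent.H154.StrP

open Cfsg Subgroup Cfsg.Agent.Lib
open Cfsg.Agent.H998.StrP (NoSP)

universe u

variable {K : Type u} [Group K] {p : ℕ}

/-- what is needed for the structural method -/
structure Setup (p : ℕ) (K : Type u) [Group K] : Prop where
  two : F2 2 p 2 K
  noTwo : ∀ x : K, orderOf x = p → BpSpor.MBig.NoTwo p ↥(centralizer ({x} : Set K))
  sq : ∃ E : Subgroup K, Nat.card E = p ^ 2 ∧ ¬ IsCyclic E
  four : ∃ x t w : K, orderOf x = p ∧ orderOf t = 2 ∧ orderOf w = 2 ∧ t ≠ w ∧ t * w = w * t ∧ x * t = t * x ∧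
    x * w = w * x

theorem noTwo_of_injective {A B : Type*} [Group A] [Group B] {f : A →* B} (hf : Function.Injective f)
    (h : BpSpor.MBig.NoTwo p B) : BpSpor.MBig.NoTwo p A := by
  intro D hD m hm hd
  refine h (D.map f) ?_ m hm ?_
  · rintro _ ⟨a, ha, rfl⟩
    rw [← map_mul, hD a ha, map_one]
  · rwa [Subgroup.card_map_of_injective hf]

/-- the restriction of the centraliser to a subgroup -/
theorem noTwo_sub (H : Subgroup K) (h : ∀ x : K, orderOf x = p → BpSpor.MBig.NoTwo p ↥(centralizer ({x} : Set K)))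
    (x : ↥H) (hx : orderOf x = p) : BpSpor.MBig.NoTwo p ↥(centralizer ({x} : Set ↥H)) := by
  have h1 := h (x : K) (by rw [Subgroup.orderOf_coe, hx])
  let f : ↥(centralizer ({x} : Set ↥H)) →* ↥(centralizer ({(x : K)} : Set K)) :=
    (H.subtype.comp (centralizer ({x} : Set ↥H)).subtype).codRestrict _ (fun c => by
      rw [mem_centralizer_singleton_iff]
      exact congrArg Subtype.val (mem_centralizer_singleton_iff.1 c.2))
  refine noTwo_of_injective (f := f) ?_ h1
  intro a b hab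
  have h2 : ((a : ↥H) : K) = ((b : ↥H) : K) := congrArg (fun c : ↥(centralizer ({(x : K)} : Set K)) => (c : K)) hab
  exact Subtype.ext (Subtype.ext h2)

theorem conj_comm {x y : K} (g : K) (h : x * y = y * x) :
    (g * x * g⁻¹) * (g * y * g⁻¹) = (g * y * g⁻¹) * (g * x * g⁻¹) := by
  calc g * x * g⁻¹ * (g * y * g⁻¹) = g * (x * y) * g⁻¹ := by group
    _ = g * (y * x) * g⁻¹ := by rw [h]
    _ = _ := by group

variable [Finite K] [hp : Fact p.Prime]

/-- a `p`-subgroup has a conjugate in `H` -/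
theorem exists_conj_le {H : Subgroup K} (hH : IsStronglyPEmbedded p H) {E : Subgroup K} (hE : IsPGroup p E) :
    ∃ g : K, E.map (MulAut.conj g).toMonoidHom ≤ H := by
  obtain ⟨h1, h2, P, hP⟩ := hH
  obtain ⟨S, hS⟩ := hE.exists_le_sylow
  obtain ⟨g, hg⟩ := MulAction.exists_smul_eq K S P
  refine ⟨g, ?_⟩
  refine le_trans ?_ (EvenType.StrongP.sylow_le h1 hP)
  rw [← hg, Sylow.coe_subgroup_smul]
  rintro _ ⟨x, hx, rfl⟩
  exact ⟨x, hS hx, rfl⟩

/-- **The general theorem.** -/
theorem Setup.main (h : Setup p K) (FT : ∀ (K : Type u) [Group K] [Finite K], Odd (Nat.card K) → Group.IsSolvable K)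
    (hp2 : p ≠ 2) {n : ℕ} (hn1 : 1 ≤ n) (hn : p ^ (n + 1) ∣ Nat.card K) {H : Subgroup K}
    (hH : IsStronglyPEmbedded p H) :
    (∃ (X : Type u) (_ : Group X) (_ : Finite X), Nat.card X ∣ Nat.card H ∧ p ^ (n + 1) ∣ Nat.card X ∧
      F2 2 p 2 X ∧ (One p X ∨ Two p X)) ∨
    (∃ (x : K) (Y : Type u) (_ : Group Y) (_ : Finite Y) (π : ↥(centralizer ({x} : Set K)) →* Y), orderOf x = p ∧
      Function.Surjective π ∧ Odd (Nat.card ↥π.ker) ∧ F2 2 p 1 Y ∧ One p Y ∧ p ^ n ∣ Nat.card Y ∧
      p ∣ Nat.card ↥π.ker) := by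
  -- the order of `H`
  have hnH : p ^ (n + 1) ∣ Nat.card H := by
    have h1 := H.card_mul_index
    have h2 := H998.StrP.index_coprime hH
    rw [← h1] at hn
    exact (Nat.Coprime.pow_left (n + 1) h2.symm).dvd_of_dvd_mul_right hn
  -- the elements
  obtain ⟨x₀, t₀, w₀, hx₀, ht₀, hw₀, hne₀, htw₀, hxt₀, hxw₀⟩ := h.four
  obtain ⟨g, hg⟩ := H49.SP.exists_conj_mem hH hx₀
  obtain ⟨x, t, w, hx, ht, hw, hne, htw, hxt, hxw, hxH⟩ : ∃ x t w : K, orderOf x = p ∧ orderOf t = 2 ∧ orderOf w = 2 ∧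
      t ≠ w ∧ t * w = w * t ∧ x * t = t * x ∧ x * w = w * x ∧ x ∈ H := by
    have ho : ∀ a : K, orderOf (g * a * g⁻¹) = orderOf a := fun a =>
      orderOf_injective (MulAut.conj g).toMonoidHom (MulAut.conj g).injective a
    refine ⟨g * x₀ * g⁻¹, g * t₀ * g⁻¹, g * w₀ * g⁻¹, by rw [ho, hx₀], by rw [ho, ht₀], by rw [ho, hw₀], ?_,
      conj_comm g htw₀, conj_comm g hxt₀, conj_comm g hxw₀, hg⟩
    intro h1
    exact hne₀ (mul_left_cancel (mul_right_cancel h1))
  have hfus : ∀ c : K, c * x = x * c → c ∈ H := by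
    intro c hc
    refine H49.SP.fusion hH hxH hx ?_
    rw [hc, mul_inv_cancel_right]
    exact hxH
  have hCH : centralizer ({x} : Set K) ≤ H := fun c hc => hfus c (mem_centralizer_singleton_iff.1 hc)
  have htH := hfus t hxt.symm
  have hwH := hfus w hxw.symm
  -- the core
  obtain ⟨E, hEc, hEn⟩ := h.sq
  obtain ⟨g', hg'⟩ := exists_conj_le hH (IsPGroup.of_card hEc)
  have hodd : Odd (Nat.card ↥(pPrimeCore p ↥H)) := by
    have e1 : ↥E ≃* ↥(E.map (MulAut.conj g').toMonoidHom) := E.equivMapOfInjective _ (MulAut.conj g').injective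
    have e2 : ↥((E.map (MulAut.conj g').toMonoidHom).subgroupOf H) ≃* ↥(E.map (MulAut.conj g').toMonoidHom) :=
      subgroupOfEquivOfLe hg'
    refine odd_core hp2 (E := (E.map (MulAut.conj g').toMonoidHom).subgroupOf H) ?_ ?_ (h.two.sub H)
      (noTwo_sub H h.noTwo)
    · rw [Nat.card_congr e2.toEquiv, ← Nat.card_congr e1.toEquiv, hEc]
    · intro hc
      apply hEn
      have e3 := e2.trans e1.symm
      exact isCyclic_of_surjective e3 e3.surjective
  have hVn : (pPrimeCore p ↥H).Normal := Cores.pPrimeCore_normal p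
  have hVc : (Nat.card ↥(pPrimeCore p ↥H)).Coprime p := Cores.pPrimeCore_coprime p
  have hO' : pPrimeCore p (↥H ⧸ pPrimeCore p ↥H) = ⊥ := Cores.pPrimeCore_quotient_pPrimeCore p
  have ha : F2 2 p 2 (↥H ⧸ pPrimeCore p ↥H) := (h.two.sub H).quot Nat.prime_two _ hVc
  have hcard : Nat.card ↥H = Nat.card (↥H ⧸ pPrimeCore p ↥H) * Nat.card ↥(pPrimeCore p ↥H) :=
    card_eq_card_quotient_mul_card_subgroup _
  have hnX : p ^ (n + 1) ∣ Nat.card (↥H ⧸ pPrimeCore p ↥H) := by
    rw [hcard] at hnH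
    exact (Nat.Coprime.pow_left (n + 1) hVc.symm).dvd_of_dvd_mul_right hnH
  by_cases hO : pCore p (↥H ⧸ pPrimeCore p ↥H) = ⊥
  · left
    refine ⟨↥H ⧸ pPrimeCore p ↥H, inferInstance, inferInstance, ?_, hnX, ha, struct FT hO' hO ?_ ha⟩
    · rw [hcard]
      exact Dvd.intro _ rfl
    · exact (dvd_pow_self p (Nat.succ_ne_zero n)).trans hnX
  · right
    set V := pPrimeCore p ↥H with hV
    set q := QuotientGroup.mk' V with hq
    set xh : ↥H := ⟨x, hxH⟩ with hxh
    set th : ↥H := ⟨t, htH⟩ with hth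
    set wh : ↥H := ⟨w, hwH⟩ with hwh
    have hker : ∀ a : ↥H, q a = 1 → a ∈ V := fun a ha' => (QuotientGroup.eq_one_iff a).1 ha'
    have hVodd : ∀ a : ↥H, orderOf a = 2 → a ∉ V := by
      intro a ha' haV
      have h1 : orderOf a ∣ Nat.card V := Subgroup.orderOf_dvd_natCard _ haV
      rw [ha'] at h1
      exact (Nat.not_even_iff_odd.2 hodd) (even_iff_two_dvd.2 h1)
    have hxo : orderOf (q xh) = p := by
      apply orderOf_eq_prime
      · rw [← map_pow]
        have : xh ^ p = 1 := Subtype.ext (by rw [← hx]; exact pow_orderOf_eq_one x)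
        rw [this, map_one]
      · intro h1
        have h2 : orderOf xh ∣ Nat.card V := Subgroup.orderOf_dvd_natCard _ (hker _ h1)
        rw [Subgroup.orderOf_mk, hx] at h2
        exact (Nat.Prime.coprime_iff_not_dvd hp.out).1 hVc.symm h2
    have hsq : ∀ (a : K) (haH : a ∈ H), orderOf a = 2 → q ⟨a, haH⟩ * q ⟨a, haH⟩ = 1 := by
      intro a haH ha'
      have h1 : (⟨a, haH⟩ : ↥H) * ⟨a, haH⟩ = 1 := Subtype.ext (by
        show a * a = 1
        rw [← pow_two, ← ha', pow_orderOf_eq_one])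
      rw [← map_mul, h1, map_one]
    have hn1' : ∀ (a : K) (haH : a ∈ H), orderOf a = 2 → q ⟨a, haH⟩ ≠ 1 := by
      intro a haH ha' h1
      exact hVodd ⟨a, haH⟩ (by rw [Subgroup.orderOf_mk, ha']) (hker _ h1)
    have htt : t * t = 1 := by rw [← pow_two, ← ht, pow_orderOf_eq_one]
    have hww : w * w = 1 := by rw [← pow_two, ← hw, pow_orderOf_eq_one]
    have htwo : orderOf (t * w) = 2 := by
      apply orderOf_eq_prime
      · rw [(show Commute t w from htw).mul_pow, pow_two, pow_two, htt, hww, one_mul]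
      · intro h1
        apply hne
        calc t = t * (w * w) := by rw [hww, mul_one]
          _ = w := by rw [← mul_assoc, h1, one_mul]
    have hqtw : q th ≠ q wh := by
      intro h1
      have h2 : q (th * wh) = 1 := by
        rw [map_mul, h1]
        exact hsq w hwH hw
      exact hn1' (t * w) (mul_mem htH hwH) htwo h2
    have hO1 := pCore_eq_zpowers (x := q xh) (v := q th) (w := q wh) hp2 hxo (hsq t htH ht) (hsq w hwH hw)
      (by rw [← map_mul, ← map_mul]; exact congrArg q (Subtype.ext htw)) (hn1' t htH ht) (hn1' w hwH hw) hqtw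
      (by rw [← map_mul, ← map_mul]; exact congrArg q (Subtype.ext hxt))
      (by rw [← map_mul, ← map_mul]; exact congrArg q (Subtype.ext hxw)) ha hO
    have hxm : q xh ∈ centralizer ({q xh} : Set (↥H ⧸ V)) := mem_centralizer_singleton_iff.2 rfl
    have hxn : (zpowers (⟨q xh, hxm⟩ : ↥(centralizer ({q xh} : Set (↥H ⧸ V))))).Normal := by
      refine ⟨?_⟩
      rintro _ ⟨k, rfl⟩ g
      refine ⟨k, ?_⟩
      have h1 : Commute g (⟨q xh, hxm⟩ : ↥(centralizer ({q xh} : Set (↥H ⧸ V)))) :=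
        Subtype.ext (mem_centralizer_singleton_iff.1 g.2)
      show _ ^ k = g * _ ^ k * g⁻¹
      rw [(h1.zpow_right k).eq, mul_inv_cancel_right]
    obtain ⟨hF, hone, hpow⟩ := exists_simple_quot FT hp2 hxo hO' hO1 ha
      ((pow_dvd_pow p (by omega)).trans hnX) hxm
    have hmem : ∀ c : ↥(centralizer ({x} : Set K)), q (inclusion hCH c) ∈ centralizer ({q xh} : Set (↥H ⧸ V)) := by
      intro c
      rw [mem_centralizer_singleton_iff, ← map_mul, ← map_mul]
      exact congrArg q (Subtype.ext (mem_centralizer_singleton_iff.1 c.2))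
    let f : ↥(centralizer ({x} : Set K)) →* ↥(centralizer ({q xh} : Set (↥H ⧸ V))) :=
      (q.comp (inclusion hCH)).codRestrict _ hmem
    have hf : Function.Surjective f := by
      rintro ⟨c, hc⟩
      have hxp : IsPGroup p ↥(zpowers xh) :=
        IsPGroup.of_card (n := 1) (by rw [Nat.card_zpowers, Subgroup.orderOf_mk, hx, pow_one])
      have h1 := PLocal.CoprimeLift.map_centralizer_mk V (zpowers xh) hVc hxp
      rw [MonoidHom.map_zpowers, cent_zpowers, cent_zpowers] at h1
      rw [← h1] at hc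
      obtain ⟨d, hd, rfl⟩ := hc
      refine ⟨⟨(d : K), ?_⟩, ?_⟩
      · rw [mem_centralizer_singleton_iff]
        exact congrArg Subtype.val (mem_centralizer_singleton_iff.1 hd)
      · rfl
    refine ⟨x, ↥(centralizer ({q xh} : Set (↥H ⧸ V))) ⧸ zpowers (⟨q xh, hxm⟩ : ↥(centralizer ({q xh} : Set (↥H ⧸ V)))),
      inferInstance, inferInstance, (QuotientGroup.mk' _).comp f, hx,
      (QuotientGroup.mk'_surjective _).comp hf, ?_, hF, hone, hpow n hnX, ?_⟩
    swap
    · have hxm' : x ∈ centralizer ({x} : Set K) := mem_centralizer_singleton_iff.2 rfl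
      have h1 : (⟨x, hxm'⟩ : ↥(centralizer ({x} : Set K))) ∈ ((QuotientGroup.mk'
          (zpowers (⟨q xh, hxm⟩ : ↥(centralizer ({q xh} : Set (↥H ⧸ V)))))).comp f).ker := by
        rw [MonoidHom.mem_ker]
        show QuotientGroup.mk' _ (f ⟨x, hxm'⟩) = 1
        exact (QuotientGroup.eq_one_iff _).2 (mem_zpowers _)
      have h2 := Subgroup.orderOf_dvd_natCard _ h1
      rwa [Subgroup.orderOf_mk, hx] at h2
    rw [← Nat.not_even_iff_odd]
    intro hev
    have h2f : Fact (Nat.Prime 2) := ⟨Nat.prime_two⟩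
    obtain ⟨⟨g, hgk⟩, hg⟩ := exists_prime_orderOf_dvd_card' 2 (even_iff_two_dvd.1 hev)
    rw [Subgroup.orderOf_mk] at hg
    have h1 : f g ∈ zpowers (⟨q xh, hxm⟩ : ↥(centralizer ({q xh} : Set (↥H ⧸ V)))) :=
      (QuotientGroup.eq_one_iff _).1 hgk
    have h2 : orderOf (f g) ∣ 2 := by
      rw [← hg]
      exact orderOf_map_dvd f g
    have h3 : orderOf (f g) ∣ p := by
      have h4 := Subgroup.orderOf_dvd_natCard _ h1
      have h5 : orderOf (⟨q xh, hxm⟩ : ↥(centralizer ({q xh} : Set (↥H ⧸ V)))) = p := by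
        rw [Subgroup.orderOf_mk, hxo]
      rwa [Nat.card_zpowers, h5] at h4
    have h4 : orderOf (f g) = 1 := by
      have h5 := Nat.dvd_gcd h2 h3
      rw [(Nat.coprime_primes Nat.prime_two hp.out).2 (Ne.symm hp2), Nat.dvd_one] at h5
      exact h5
    rw [orderOf_eq_one_iff] at h4
    have h5 : q (inclusion hCH g) = 1 := congrArg Subtype.val h4
    refine hVodd (inclusion hCH g) ?_ (hker _ h5)
    rw [← Subgroup.orderOf_coe]
    show orderOf (g : K) = 2
    rw [Subgroup.orderOf_coe, hg]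

end Cfsg.Agent.H154.StrP
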