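import Cfsg.Agent.BpSpor.MBigTool
import Cfsg.Agent.PLocal.CoprimeLift
import Cfsg.Agent.S0058
import Cfsg.Agent.Lib.CoprimeHyperplane

/-!
# Strongly `p`-embedded subgroups, structural method: lifting tools (helper154)

`F2 r p k X` : `p ^ k` does not divide the order of the centralizer of an element of order `r`.

* `exists_lift` : an element of prime order commuting with the image of a `p`-group lifts, modulo a normal `p'`-subgroup;
* `exists_lift_group` : `p`-subgroups lift;
* `F2.quot`, `F2.sub` : the condition in quotients and subgroups;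
* `odd_core` : `O_{p'}(X)` has odd order;
* `le_zpowers_of_four` : the four-group argument;
* `eq_bot_of_three` : a group inverted by two commuting involutions and their product.
-/

set_option autoImplicit false

namespace Cfsg.Agent.H154.StrP

open Cfsg Subgroup

universe u

variable {X : Type u} [Group X] [Finite X] {p : ℕ} [hp : Fact p.Prime]

/-- `p ^ k` does not divide the order of the centralizer of an element of order `r` -/
def F2 (r p k : ℕ) (X : Type u) [Group X] : Prop :=
  ∀ t : X, orderOf t = r → ¬ p ^ k ∣ Nat.card ↥(centralizer ({t} : Set X))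

omit [Finite X] in
theorem mem_cent_of {D : Subgroup X} {v : X} (h : ∀ d ∈ D, d * v = v * d) : v ∈ centralizer (D : Set X) :=
  mem_centralizer_iff.2 h

/-- an element of prime order `r` commuting with the image of a `p`-group lifts -/
theorem exists_lift {r : ℕ} (hr : r.Prime) (N : Subgroup X) [N.Normal] (hN : (Nat.card N).Coprime p)
    {D : Subgroup X} (hD : IsPGroup p D) {v : X ⧸ N} (hv : orderOf v = r)
    (hvD : v ∈ centralizer ((D.map (QuotientGroup.mk' N) : Subgroup (X ⧸ N)) : Set (X ⧸ N))) :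
    ∃ t ∈ centralizer (D : Set X), orderOf t = r := by
  rw [← PLocal.CoprimeLift.map_centralizer_mk N D hN hD] at hvD
  obtain ⟨c, hc, hcv⟩ := hvD
  have h1 : r ∣ orderOf c := by
    rw [← hv, ← hcv]
    exact orderOf_map_dvd (QuotientGroup.mk' N) c
  refine ⟨c ^ (orderOf c / r), pow_mem hc _, ?_⟩
  have h2 : orderOf c ≠ 0 := (orderOf_pos c).ne'
  obtain ⟨m, hm⟩ := h1
  rw [hm, Nat.mul_div_cancel_left _ hr.pos]
  have h3 := orderOf_pow_of_dvd (x := c) (n := m) (by rintro rfl; rw [mul_zero] at hm; exact h2 hm)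
    (Dvd.intro_left r hm.symm)
  rw [h3, hm]
  refine Nat.mul_div_cancel _ ?_
  exact Nat.pos_of_ne_zero (by rintro rfl; rw [mul_zero] at hm; exact h2 hm)

/-- `p`-subgroups of `X ⧸ N` lift -/
theorem exists_lift_group (N : Subgroup X) [N.Normal] (hN : (Nat.card N).Coprime p) {E : Subgroup (X ⧸ N)} {k : ℕ}
    (hE : Nat.card E = p ^ k) : ∃ D : Subgroup X, Nat.card D = p ^ k ∧ D.map (QuotientGroup.mk' N) = E := by
  have hq : Function.Surjective (QuotientGroup.mk' N) := QuotientGroup.mk'_surjective N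
  have h1 : Nat.card ↥(E.comap (QuotientGroup.mk' N)) = Nat.card N * p ^ k := by
    have h2 := card_mul_index (E.comap (QuotientGroup.mk' N))
    rw [index_comap_of_surjective E hq] at h2
    have h4 := card_mul_index E
    rw [hE] at h4
    have h5 := card_eq_card_quotient_mul_card_subgroup N
    have h6 : E.index ≠ 0 := index_ne_zero_of_finite
    have h7 : Nat.card ↥(E.comap (QuotientGroup.mk' N)) * E.index = (Nat.card N * p ^ k) * E.index := by
      rw [h2, h5, ← h4]; ring
    exact Nat.eq_of_mul_eq_mul_right (Nat.pos_of_ne_zero h6) h7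
  have h3 : p ^ k ∣ Nat.card ↥(E.comap (QuotientGroup.mk' N)) := by rw [h1]; exact dvd_mul_left _ _
  obtain ⟨D, hD⟩ := Sylow.exists_subgroup_card_pow_prime p h3
  refine ⟨D.map (E.comap (QuotientGroup.mk' N)).subtype, ?_, ?_⟩
  · rw [card_map_of_injective (subtype_injective _), hD]
  · have hle : (D.map (E.comap (QuotientGroup.mk' N)).subtype).map (QuotientGroup.mk' N) ≤ E := by
      rintro _ ⟨_, ⟨d, -, rfl⟩, rfl⟩
      exact d.2
    have hcop : (Nat.card ↥(D.map (E.comap (QuotientGroup.mk' N)).subtype)).Coprime (Nat.card N) := by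
      rw [card_map_of_injective (subtype_injective _), hD]
      exact Nat.Coprime.pow_left _ hN.symm
    refine eq_of_le_of_card_ge hle ?_
    rw [hE]
    have h4 : Function.Injective ((QuotientGroup.mk' N).subgroupMap
        (D.map (E.comap (QuotientGroup.mk' N)).subtype)) := by
      rw [← MonoidHom.ker_eq_bot_iff, eq_bot_iff]
      intro d hd
      rw [MonoidHom.mem_ker] at hd
      have h5 : (d : X) ∈ N := by
        have := congrArg Subtype.val hd
        exact (QuotientGroup.eq_one_iff _).1 this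
      have h6 : (d : X) ∈ (D.map (E.comap (QuotientGroup.mk' N)).subtype) ⊓ N := ⟨d.2, h5⟩
      rw [(disjoint_of_coprime_natCard hcop).eq_bot, mem_bot] at h6
      exact Subtype.ext h6
    have h7 := Nat.card_le_card_of_injective _ h4
    rwa [card_map_of_injective (subtype_injective _), hD] at h7

theorem F2.quot {r k : ℕ} (hr : r.Prime) (h : F2 r p k X) (N : Subgroup X) [N.Normal]
    (hN : (Nat.card N).Coprime p) : F2 r p k (X ⧸ N) := by
  intro v hv hd
  obtain ⟨E, hE⟩ := Sylow.exists_subgroup_card_pow_prime p hd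
  have hE' : Nat.card ↥(E.map (centralizer ({v} : Set (X ⧸ N))).subtype) = p ^ k := by
    rw [card_map_of_injective (subtype_injective _), hE]
  obtain ⟨D, hD, hDE⟩ := exists_lift_group N hN hE'
  obtain ⟨t, ht, hto⟩ := exists_lift hr N hN (IsPGroup.of_card hD) hv (D := D) (by
    rw [hDE]
    refine mem_centralizer_iff.2 ?_
    rintro _ ⟨e, -, rfl⟩
    exact mem_centralizer_singleton_iff.1 e.2)
  refine h t hto ?_
  rw [← hD]
  refine card_dvd_of_le fun d hd' => mem_centralizer_singleton_iff.2 ?_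
  exact mem_centralizer_iff.1 ht d hd'

omit [Finite X] hp in
theorem F2.sub {r k : ℕ} (h : F2 r p k X) (H : Subgroup X) : F2 r p k ↥H := by
  intro t ht hd
  refine h (t : X) (by rw [Subgroup.orderOf_coe, ht]) (hd.trans ?_)
  have h1 : Nat.card ↥((centralizer ({t} : Set ↥H)).map H.subtype) = Nat.card ↥(centralizer ({t} : Set ↥H)) :=
    card_map_of_injective (subtype_injective _)
  rw [← h1]
  apply card_dvd_of_le
  rintro _ ⟨c, hc, rfl⟩
  exact mem_centralizer_singleton_iff.2 (congrArg Subtype.val (mem_centralizer_singleton_iff.1 hc))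

omit [Finite X] hp in
theorem F2.mono {r k l : ℕ} (h : F2 r p k X) (hkl : k ≤ l) : F2 r p l X :=
  fun t ht hd => h t ht ((pow_dvd_pow p hkl).trans hd)

/-! ### the odd core -/

/-- a `p`-group normalising an elementary abelian 2-group `A` centralised by one of its elements `a` of order `p` -/
theorem le_centralizer_of_noTwo (hp2 : p ≠ 2) {a y : X} (hb : BpSpor.MBig.NoTwo p ↥(centralizer ({a} : Set X)))
    {A : Subgroup X} (hA : ∀ b ∈ A, b * b = 1) (hAa : A ≤ centralizer ({a} : Set X)) (hy : ∃ n, y ^ p ^ n = 1)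
    (hyA : y ∈ normalizer (A : Set X)) : A ≤ centralizer ({y} : Set X) := by
  obtain ⟨n, hn⟩ := hy
  have hA2 : IsPGroup 2 ↥A := by
    rintro ⟨b, hb'⟩
    refine ⟨1, Subtype.ext ?_⟩
    show b ^ 2 ^ 1 = 1
    rw [pow_one, pow_two, hA b hb']
  refine BpSpor.Arith.cent_of_index (p := p) hp.out hn Nat.prime_two (Ne.symm hp2) hA2 hyA
    fun m hm hmd _ => hb (A.subgroupOf (centralizer ({a} : Set X))) ?_ m hm ?_
  · intro b hb'
    exact Subtype.ext (hA _ (mem_subgroupOf.1 hb'))
  · rwa [Nat.card_congr (subgroupOfEquivOfLe hAa).toEquiv]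

/-- **The core has odd order.** -/
theorem odd_core (hp2 : p ≠ 2) {E : Subgroup X} (hE : Nat.card E = p ^ 2) (hEc : ¬ IsCyclic E)
    (ha : F2 2 p 2 X) (hb : ∀ x : X, orderOf x = p → BpSpor.MBig.NoTwo p ↥(centralizer ({x} : Set X))) :
    Odd (Nat.card ↥(pPrimeCore p X)) := by
  have hOn := Lib.Cores.pPrimeCore_normal (G := X) p
  have hOc := Lib.Cores.pPrimeCore_coprime (G := X) p
  have : Fact (Nat.Prime 2) := ⟨Nat.prime_two⟩
  by_contra hodd
  rw [Nat.not_odd_iff_even] at hodd
  set O := pPrimeCore p X with hO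
  have hEp : IsPGroup p E := IsPGroup.of_card hE
  have hcomm := IsPGroup.isMulCommutative_of_card_eq_prime_sq hE
  obtain ⟨P, hP⟩ := Lib.CoprimeHyperplane.exists_invariant_sylow (A := E) (Q := O) hEp
    (by rw [normalizer_eq_top O]; exact le_top) (fun h => hp.out.one_lt.ne' (Nat.Coprime.eq_one_of_dvd hOc.symm h)) 2
  set P' : Subgroup X := (P : Subgroup ↥O).map O.subtype with hP'
  have hP2 : IsPGroup 2 ↥P' := P.2.map _
  have hP1 : P' ≠ ⊥ := by
    intro h
    rw [hP', map_eq_bot_iff_of_injective _ O.subtype_injective] at h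
    have h1 := P.card_eq_multiplicity
    rw [h, card_bot] at h1
    have h2 : 2 ^ 1 ∣ 2 ^ (Nat.card ↥O).factorization 2 := by
      refine pow_dvd_pow 2 ?_
      exact (Nat.prime_two.dvd_iff_one_le_factorization Nat.card_pos.ne').1 hodd.two_dvd
    rw [← h1] at h2
    norm_num at h2
  obtain ⟨t, htA, ht⟩ := BpSpor.MBig.exists_omegaZ hP2 hP1
  set A := BpSpor.MBig.omegaZ P' with hAdef
  have hA : ∀ b ∈ A, b * b = 1 := fun b hb' => hb'.2.1
  have hA2 : IsPGroup 2 ↥A := by
    rintro ⟨b, hb'⟩
    refine ⟨1, Subtype.ext ?_⟩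
    show b ^ 2 ^ 1 = 1
    rw [pow_one, pow_two, hA b hb']
  have hEA : E ≤ normalizer (A : Set X) := hP.trans (BpSpor.MBig.norm_omegaZ P')
  have hcop : (Nat.card E).Coprime (Nat.card A) := by
    obtain ⟨n, hn⟩ := IsPGroup.iff_card.1 hA2
    rw [hE, hn]
    exact Nat.Coprime.pow _ _ ((Nat.coprime_primes hp.out Nat.prime_two).2 hp2)
  have hgen := S0058.result E A hEc hEA hcop
  -- some element of `E` has a fixed point
  obtain ⟨e, heE, he1, s, hsA, hse, hs1⟩ : ∃ e ∈ E, e ≠ 1 ∧ ∃ s ∈ A, s * e = e * s ∧ s ≠ 1 := by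
    by_contra hcon
    push Not at hcon
    have h1 : (⨆ a ∈ {a : X | a ∈ E ∧ a ≠ 1}, A ⊓ centralizer {a}) = ⊥ := by
      rw [eq_bot_iff]
      refine iSup₂_le ?_
      rintro a ⟨haE, ha1⟩ s ⟨hsA, hsa⟩
      rw [mem_bot]
      exact hcon a haE ha1 s hsA (mem_centralizer_singleton_iff.1 hsa)
    rw [h1] at hgen
    rw [← hgen, mem_bot] at htA
    rw [htA, orderOf_one] at ht
    norm_num at ht
  have heo : ∃ n, e ^ p ^ n = 1 := by
    obtain ⟨n, hn⟩ := hEp ⟨e, heE⟩
    exact ⟨n, congrArg Subtype.val hn⟩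
  -- a power of `e` has order `p`
  obtain ⟨a, haE, hao, hsa⟩ : ∃ a ∈ E, orderOf a = p ∧ s * a = a * s := by
    obtain ⟨n, hn⟩ := heo
    have h1 : p ∣ orderOf e := by
      obtain ⟨k, -, hk⟩ := (Nat.dvd_prime_pow hp.out).1 (orderOf_dvd_of_pow_eq_one hn)
      rw [hk]
      cases k with
      | zero =>
        rw [pow_zero, orderOf_eq_one_iff] at hk
        exact absurd hk he1
      | succ k => exact Dvd.intro_left _ rfl
    obtain ⟨m, hm⟩ := h1
    have h2 : orderOf e ≠ 0 := (orderOf_pos e).ne'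
    have hm0 : m ≠ 0 := by rintro rfl; rw [mul_zero] at hm; exact h2 hm
    refine ⟨e ^ m, pow_mem heE m, ?_, ?_⟩
    · rw [orderOf_pow_of_dvd hm0 (Dvd.intro_left p hm.symm), hm]
      exact Nat.mul_div_cancel _ (Nat.pos_of_ne_zero hm0)
    · exact (Commute.pow_right (show Commute s e from hse) m).eq
  -- `B = A ⊓ C(a)`
  have hcE : ∀ y ∈ E, y * a = a * y := by
    intro y hy
    exact congrArg Subtype.val (hcomm.is_comm.comm (⟨y, hy⟩ : ↥E) ⟨a, haE⟩)
  have hB : ∀ y ∈ E, A ⊓ centralizer ({a} : Set X) ≤ centralizer ({y} : Set X) := by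
    intro y hy
    have hyo : ∃ n, y ^ p ^ n = 1 := by
      obtain ⟨n, hn⟩ := hEp ⟨y, hy⟩
      exact ⟨n, congrArg Subtype.val hn⟩
    refine le_centralizer_of_noTwo hp2 (hb a hao) (fun b hb' => hA b hb'.1) inf_le_right hyo ?_
    have h1 := mem_normalizer_iff.1 (hEA hy)
    rw [mem_normalizer_iff]
    intro g
    constructor
    · rintro ⟨hg1, hg2⟩
      refine ⟨(h1 g).1 hg1, mem_centralizer_singleton_iff.2 ?_⟩
      have h2 := mem_centralizer_singleton_iff.1 hg2
      have h3 := hcE y hy
      have h4 : y⁻¹ * a = a * y⁻¹ := by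
        have : Commute y a := h3
        exact this.inv_left.eq
      calc y * g * y⁻¹ * a = y * g * (y⁻¹ * a) := by group
        _ = y * (g * a) * y⁻¹ := by rw [h4]; group
        _ = (y * a) * g * y⁻¹ := by rw [h2]; group
        _ = a * (y * g * y⁻¹) := by rw [h3]; group
    · rintro ⟨hg1, hg2⟩
      refine ⟨(h1 g).2 hg1, mem_centralizer_singleton_iff.2 ?_⟩
      have h2 := mem_centralizer_singleton_iff.1 hg2
      have h3 := hcE y hy
      have h4 : y⁻¹ * a = a * y⁻¹ := by
        have : Commute y a := h3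
        exact this.inv_left.eq
      calc g * a = y⁻¹ * (y * g * y⁻¹ * (y * a)) := by group
        _ = y⁻¹ * ((y * g * y⁻¹ * a) * y) := by rw [h3]; group
        _ = y⁻¹ * (a * (y * g * y⁻¹) * y) := by rw [h2]
        _ = (y⁻¹ * a) * y * g := by group
        _ = a * g := by rw [h4]; group
  have hso : orderOf s = 2 := orderOf_eq_prime (by rw [pow_two, hA s hsA]) hs1
  refine ha s hso ?_
  rw [← hE]
  refine card_dvd_of_le fun y hy => mem_centralizer_singleton_iff.2 ?_
  exact (mem_centralizer_singleton_iff.1 (hB y hy ⟨hsA, mem_centralizer_singleton_iff.2 hsa⟩)).symm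

/-! ### the four-group -/

/-- the four-group generated by two commuting involutions -/
def four (v w : X) (hv : v * v = 1) (hw : w * w = 1) (hc : v * w = w * v) : Subgroup X where
  carrier := {1, v, w, v * w}
  one_mem' := Or.inl rfl
  mul_mem' := by
    have e1 : v * (v * w) = w := by rw [← mul_assoc, hv, one_mul]
    have e2 : w * (v * w) = v := by rw [hc, ← mul_assoc, hw, one_mul]
    have e3 : v * w * v = w := by rw [hc, mul_assoc, hv, mul_one]
    have e4 : v * w * w = v := by rw [mul_assoc, hw, mul_one]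
    have e5 : v * w * (v * w) = 1 := by rw [mul_assoc, e2, hv]
    intro a b ha hb
    rcases ha with rfl | rfl | rfl | rfl <;> rcases hb with rfl | rfl | rfl | rfl
    · simp
    · simp
    · simp
    · simp
    · simp
    · left; exact hv
    · right; right; right; rfl
    · right; right; left; exact e1
    · simp
    · right; right; right; exact hc.symm
    · left; exact hw
    · right; left; exact e2
    · simp
    · right; right; left; exact e3
    · right; left; exact e4
    · left; exact e5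
  inv_mem' := by
    intro a ha
    rcases ha with rfl | rfl | rfl | rfl
    · simp
    · right; left; exact inv_eq_of_mul_eq_one_left hv
    · right; right; left; exact inv_eq_of_mul_eq_one_left hw
    · right; right; right
      refine inv_eq_of_mul_eq_one_left ?_
      calc v * w * (v * w) = v * (w * v) * w := by group
        _ = (v * v) * (w * w) := by rw [← hc]; group
        _ = 1 := by rw [hv, hw, one_mul]

omit [Finite X] in
theorem mem_four {v w : X} {hv : v * v = 1} {hw : w * w = 1} {hc : v * w = w * v} {g : X} :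
    g ∈ four v w hv hw hc ↔ g = 1 ∨ g = v ∨ g = w ∨ g = v * w := Iff.rfl

omit [Finite X] in
theorem four_sq {v w : X} {hv : v * v = 1} {hw : w * w = 1} {hc : v * w = w * v} {g : X}
    (hg : g ∈ four v w hv hw hc) : g * g = 1 := by
  rcases mem_four.1 hg with rfl | rfl | rfl | rfl
  · simp
  · exact hv
  · exact hw
  · calc v * w * (v * w) = v * (w * v) * w := by group
      _ = (v * v) * (w * w) := by rw [← hc]; group
      _ = 1 := by rw [hv, hw, one_mul]

omit [Finite X] in
theorem four_not_cyclic {v w : X} (hv : v * v = 1) (hw : w * w = 1) (hc : v * w = w * v) (hv1 : v ≠ 1) (hw1 : w ≠ 1)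
    (hvw : v ≠ w) : ¬ IsCyclic ↥(four v w hv hw hc) := by
  rintro ⟨⟨g, hg⟩⟩
  have hgg : g * g = 1 := Subtype.ext (four_sq g.2)
  have key : ∀ a : ↥(four v w hv hw hc), a = 1 ∨ a = g := by
    intro a
    obtain ⟨k, hk⟩ := hg a
    rcases Int.even_or_odd' k with ⟨m, rfl | rfl⟩
    · left
      rw [← hk]
      show g ^ (2 * m) = 1
      rw [zpow_mul, show g ^ (2 : ℤ) = 1 by rw [zpow_two, hgg], one_zpow]
    · right
      rw [← hk]
      show g ^ (2 * m + 1) = g
      rw [zpow_add, zpow_mul, show g ^ (2 : ℤ) = 1 by rw [zpow_two, hgg], one_zpow, one_mul, zpow_one]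
  have hvm : v ∈ four v w hv hw hc := Or.inr (Or.inl rfl)
  have hwm : w ∈ four v w hv hw hc := Or.inr (Or.inr (Or.inl rfl))
  rcases key ⟨v, hvm⟩ with h | h
  · exact hv1 (congrArg Subtype.val h)
  · rcases key ⟨w, hwm⟩ with h' | h'
    · exact hw1 (congrArg Subtype.val h')
    · exact hvw (congrArg Subtype.val (h.trans h'.symm))

/-- **The four-group argument.** -/
theorem le_zpowers_of_four (hp2 : p ≠ 2) {x v w : X} (hx : orderOf x = p) (hv : v * v = 1) (hw : w * w = 1)
    (hc : v * w = w * v) (hv1 : v ≠ 1) (hw1 : w ≠ 1) (hvw : v ≠ w) (hxv : x * v = v * x) (hxw : x * w = w * x)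
    (ha : F2 2 p 2 X) {N : Subgroup X} (hN : IsPGroup p N) (hNx : N ≤ centralizer ({x} : Set X))
    (hNv : v ∈ normalizer (N : Set X)) (hNw : w ∈ normalizer (N : Set X)) : N ≤ zpowers x := by
  have h2f : Fact (Nat.Prime 2) := ⟨Nat.prime_two⟩
  set V := four v w hv hw hc with hV
  have hVc : IsMulCommutative V := by
    refine ⟨⟨?_⟩⟩
    rintro ⟨a, ha'⟩ ⟨b, hb'⟩
    have h1 := four_sq (mul_mem ha' hb')
    have h2 := four_sq ha'
    have h3 := four_sq hb'
    apply Subtype.ext
    show a * b = b * a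
    calc a * b = a * (a * b * (a * b)) * b := by rw [h1, mul_one]
      _ = (a * a) * (b * a) * (b * b) := by group
      _ = b * a := by rw [h2, h3, one_mul, mul_one]
  have hVN : V ≤ normalizer (N : Set X) := by
    intro g hg
    rcases mem_four.1 hg with rfl | rfl | rfl | rfl
    · exact one_mem _
    · exact hNv
    · exact hNw
    · exact mul_mem hNv hNw
  have hVx : V ≤ centralizer ({x} : Set X) := by
    intro g hg
    rw [mem_centralizer_singleton_iff]
    rcases mem_four.1 hg with rfl | rfl | rfl | rfl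
    · simp
    · exact hxv.symm
    · exact hxw.symm
    · calc v * w * x = v * (x * w) := by rw [hxw]; group
        _ = x * (v * w) := by rw [← mul_assoc, ← hxv]; group
  have hV2 : IsPGroup 2 V := by
    rintro ⟨g, hg⟩
    refine ⟨1, Subtype.ext ?_⟩
    show g ^ 2 ^ 1 = 1
    rw [pow_one, pow_two, four_sq hg]
  have hcop : (Nat.card V).Coprime (Nat.card N) := by
    obtain ⟨n, hn⟩ := IsPGroup.iff_card.1 hN
    obtain ⟨m, hm⟩ := IsPGroup.iff_card.1 hV2
    rw [hn, hm]
    exact Nat.Coprime.pow _ _ ((Nat.coprime_primes Nat.prime_two hp.out).2 (Ne.symm hp2))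
  rw [← S0058.result V N (four_not_cyclic hv hw hc hv1 hw1 hvw) hVN hcop]
  refine iSup₂_le ?_
  rintro g ⟨hgV, hg1⟩ n ⟨hnN, hng⟩
  -- the `p`-group `⟨x, n⟩` commutes with `g`
  have hgo : orderOf g = 2 := orderOf_eq_prime (by rw [pow_two, four_sq hgV]) hg1
  have hcn : x * n = n * x := (mem_centralizer_singleton_iff.1 (hNx hnN)).symm
  by_contra hnx
  have hxp : IsPGroup p (zpowers x) := IsPGroup.of_card (n := 1) (by rw [Nat.card_zpowers, hx, pow_one])
  have hnp : IsPGroup p (zpowers n) := hN.to_le (zpowers_le.2 hnN)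
  have hnorm : zpowers x ≤ normalizer (zpowers n : Set X) := by
    rw [zpowers_le, mem_normalizer_iff]
    intro h
    have hconj : ∀ k : ℤ, x * n ^ k * x⁻¹ = n ^ k := by
      intro k
      have : Commute x n := hcn
      rw [(this.zpow_right k).eq, mul_inv_cancel_right]
    constructor
    · rintro ⟨k, rfl⟩
      exact ⟨k, (hconj k).symm⟩
    · rintro ⟨k, hk⟩
      refine ⟨k, ?_⟩
      have h1 : n ^ k = x * h * x⁻¹ := hk
      have h2 := hconj k
      calc n ^ k = x⁻¹ * (x * n ^ k * x⁻¹) * x := by group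
        _ = x⁻¹ * (x * h * x⁻¹) * x := by rw [h2, h1]
        _ = h := by group
  have hsup : IsPGroup p ↥(zpowers x ⊔ zpowers n : Subgroup X) :=
    hxp.to_sup_of_normal_right' hnp hnorm
  have hle : (zpowers x ⊔ zpowers n : Subgroup X) ≤ centralizer ({g} : Set X) := by
    rw [sup_le_iff, zpowers_le, zpowers_le]
    exact ⟨mem_centralizer_singleton_iff.2 (mem_centralizer_singleton_iff.1 (hVx hgV)).symm, hng⟩
  obtain ⟨m, hm⟩ := IsPGroup.iff_card.1 hsup
  have hm2 : m < 2 := by
    by_contra hcon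
    push Not at hcon
    exact ha g hgo (((pow_dvd_pow p hcon).trans hm.symm.dvd).trans (card_dvd_of_le hle))
  have hm1 : Nat.card ↥(zpowers x ⊔ zpowers n : Subgroup X) ≤ p := by
    rw [hm]
    calc p ^ m ≤ p ^ 1 := Nat.pow_le_pow_right hp.out.pos (by omega)
      _ = p := pow_one p
  have heq : zpowers x = (zpowers x ⊔ zpowers n : Subgroup X) := by
    refine eq_of_le_of_card_ge le_sup_left ?_
    rw [Nat.card_zpowers, hx]
    exact hm1
  apply hnx
  rw [heq]
  exact (le_sup_right : zpowers n ≤ _) (mem_zpowers n)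

/-- a group without fixed points of three involutions of a four-group -/
theorem eq_bot_of_three {v w : X} (hv : v * v = 1) (hw : w * w = 1)
    {W : Subgroup X} (hW : W.Normal) (h1 : ∀ o ∈ W, o * v = v * o → o = 1) (h2 : ∀ o ∈ W, o * w = w * o → o = 1)
    (h3 : ∀ o ∈ W, o * (v * w) = v * w * o → o = 1) : W = ⊥ := by
  rw [eq_bot_iff]
  intro o ho
  rw [mem_bot]
  have hi1 := BpSpor.MBig.inv_of_fpf hW hv h1
  have hi2 := BpSpor.MBig.inv_of_fpf hW hw h2
  apply h3 o ho
  have h4 : v * w * o * (v * w)⁻¹ = o := by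
    calc v * w * o * (v * w)⁻¹ = v * (w * o * w⁻¹) * v⁻¹ := by group
      _ = v * o⁻¹ * v⁻¹ := by rw [hi2 o ho]
      _ = (o⁻¹)⁻¹ := hi1 _ (inv_mem ho)
      _ = o := inv_inv o
  exact (mul_inv_eq_iff_eq_mul.1 h4).symm

end Cfsg.Agent.H154.StrP
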