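import Cfsg.Agent.H364.OutLie
import Cfsg.Agent.H489.OutSpor
import Cfsg.Agent.OrdDiv.Table

/-!
# A prime not dividing `|Out S|`, `S` in a list of names (helper154)

`okG r g` : a check on the name `g`; `not_dvd_out` : if `S` has the name `g` and `okG r g` holds, then `r` does not divide
`|Out S|`. `exists_out` : the simple groups with order dividing `N`.
-/

set_option autoImplicit false

namespace Cfsg.Agent.H154.OutList

open Cfsg Cfsg.Agent.OrdDiv Cfsg.Agent.H902 Cfsg.Agent.H902.Names Cfsg.Agent.H364.OutLie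

universe u

/-- the check -/
def okG (r : ℕ) : Grp → Bool
  | .alt n => Nat.ble 7 n
  | .psl n q => Nat.ble 2 n && (!(Nat.beq n 2) || Nat.ble 4 q) && ((24 * Nat.gcd n (q - 1)) % r != 0) && Nat.blt q (2 ^ r)
  | .psp n q => Nat.ble 2 n && (!(Nat.beq n 2) || Nat.ble 3 q) && ((24 * Nat.gcd 2 (q - 1)) % r != 0) && Nat.blt q (2 ^ r)
  | .psu n q => Nat.ble 3 n && (!(Nat.beq n 3) || Nat.ble 3 q) && ((24 * Nat.gcd n (q + 1)) % r != 0) && Nat.blt q (2 ^ r)
  | .oodd n q => Nat.ble 3 n && Nat.beq (q % 2) 1 && ((24 * Nat.gcd 2 (q - 1)) % r != 0) && Nat.blt q (2 ^ r)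
  | .oplus n q => Nat.ble 4 n && ((24 * Nat.gcd 4 (q ^ n - 1)) % r != 0) && Nat.blt q (2 ^ r)
  | .ominus n q => Nat.ble 4 n && ((24 * Nat.gcd 4 (q ^ n + 1)) % r != 0) && Nat.blt q (2 ^ r)
  | .g2 q => Nat.ble 3 q && (24 % r != 0) && Nat.blt q (2 ^ r)
  | .f4 q => (24 % r != 0) && Nat.blt q (2 ^ r)
  | .e6 q => ((24 * Nat.gcd 3 (q - 1)) % r != 0) && Nat.blt q (2 ^ r)
  | .e7 q => ((24 * Nat.gcd 2 (q - 1)) % r != 0) && Nat.blt q (2 ^ r)
  | .e8 q => (24 % r != 0) && Nat.blt q (2 ^ r)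
  | .te6 q => ((24 * Nat.gcd 3 (q + 1)) % r != 0) && Nat.blt q (2 ^ r)
  | .td4 q => (24 % r != 0) && Nat.blt q (2 ^ r)
  | .sz q => (24 % r != 0) && Nat.blt q (2 ^ r)
  | .ree q => (24 % r != 0) && Nat.blt q (2 ^ r)
  | .tf4 q => (24 % r != 0) && Nat.blt q (2 ^ r)
  | _ => true

theorem not_dvd_of_bd {S : Type u} [Group S] {X : Art.Sh} {p f r : ℕ} (hr : r.Prime) (h : Bd S X p f)
    (hp : p.Prime) (hf : 1 ≤ f) (h1 : (24 * Art.dd X (p ^ f)) % r ≠ 0) (h2 : p ^ f < 2 ^ r) :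
    ¬ r ∣ Nat.card (Cfsg.Out S) := by
  obtain ⟨c, hc, hc1, -⟩ := h
  rw [hc, hr.dvd_mul]
  rintro (h3 | h3)
  · exact h1 (Nat.mod_eq_zero_of_dvd (h3.trans hc1))
  · have h4 : r ≤ f := Nat.le_of_dvd hf h3
    have h5 : 2 ^ r ≤ p ^ f := (Nat.pow_le_pow_left hp.two_le r).trans (Nat.pow_le_pow_right hp.pos h4)
    omega

theorem not_dvd_of_le_two {S : Type u} [Group S] [Finite S] {r : ℕ} (hr : 3 ≤ r) (h : Nat.card (Cfsg.Out S) ≤ 2) :
    ¬ r ∣ Nat.card (Cfsg.Out S) := by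
  intro h1
  have h2 := Nat.le_of_dvd Nat.card_pos h1
  omega

theorem ne_of_bne {a r : ℕ} (h : (a % r != 0) = true) : a % r ≠ 0 := bne_iff_ne.1 h

set_option maxHeartbeats 4000000 in
/-- **`r` does not divide `|Out S|`.** -/
theorem not_dvd_out (T : OrderTable.{u}) {S : Type u} [Group S] [Finite S] [IsSimpleGroup S]
    (hna : ¬ ∀ a b : S, a * b = b * a) {r : ℕ} (hr : r.Prime) (hr3 : 3 ≤ r) {g : Grp} (hg : OrdDiv.Real g S)
    (hok : okG r g = true) : ¬ r ∣ Nat.card (Cfsg.Out S) := by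
  have hs : IsSporadicGroup S → ¬ r ∣ Nat.card (Cfsg.Out S) := fun h =>
    not_dvd_of_le_two hr3 (H489.card_out_sporadic h)
  cases g with
  | alt n =>
    obtain ⟨e⟩ := hg
    have hn : 7 ≤ n := Nat.le_of_ble_eq_true hok
    refine not_dvd_of_le_two hr3 ?_
    rw [H55.OutGen.card_out_congr e, H489.card_out_alt (by omega) (by omega)]
  | psl n q =>
    simp only [okG, Bool.and_eq_true, Bool.or_eq_true, Bool.not_eq_true', Nat.ble_eq, Nat.blt_eq] at hok
    obtain ⟨⟨⟨h1, h2⟩, h3⟩, h4⟩ := hok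
    obtain ⟨F, _, _, hF, ⟨e⟩⟩ := hg
    obtain ⟨p, f, hp, hf, hF'⟩ := exists_pp F
    have hq : q = p ^ f := by rw [← hF, hF']
    subst hq
    have hR := psl_real hp hf hF h1 (by
      intro hn
      rcases h2 with h2 | h2
      · rw [hn] at h2
        exact absurd h2 (by decide)
      · exact h2)
    refine not_dvd_of_bd hr (card_out hna (.psl n p f) ⟨F, inferInstance, inferInstance, hF, ⟨e⟩⟩
      (by rw [Nat.card_congr e.toEquiv]; exact hR)) hp hf (ne_of_bne h3) h4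
  | psp n q =>
    simp only [okG, Bool.and_eq_true, Bool.or_eq_true, Bool.not_eq_true', Nat.ble_eq, Nat.blt_eq] at hok
    obtain ⟨⟨⟨h1, h2⟩, h3⟩, h4⟩ := hok
    obtain ⟨F, _, _, hF, ⟨e⟩⟩ := hg
    obtain ⟨p, f, hp, hf, hF'⟩ := exists_pp F
    have hq : q = p ^ f := by rw [← hF, hF']
    subst hq
    have hR := psp_real hp hf hF h1 (by
      intro hn
      rcases h2 with h2 | h2
      · rw [hn] at h2
        exact absurd h2 (by decide)
      · exact h2)
    refine not_dvd_of_bd hr (card_out hna (.psp n p f) ⟨F, inferInstance, inferInstance, hF, ⟨e⟩⟩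
      (by rw [Nat.card_congr e.toEquiv]; exact hR)) hp hf (ne_of_bne h3) h4
  | psu n q =>
    simp only [okG, Bool.and_eq_true, Bool.or_eq_true, Bool.not_eq_true', Nat.ble_eq, Nat.blt_eq] at hok
    obtain ⟨⟨⟨h1, h2⟩, h3⟩, h4⟩ := hok
    obtain ⟨F, _, _, hF, ⟨e⟩⟩ := hg
    have hqp : IsPrimePow q := by
      have h2 : IsPrimePow (q ^ 2) := hF ▸ Fintype.isPrimePow_card_of_field
      exact (isPrimePow_pow_iff (by norm_num)).1 h2
    obtain ⟨p, f, hp, hf, rfl⟩ := (isPrimePow_nat_iff _).1 hqp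
    have hR := psu_real hp hf hF h1 (by
      rintro ⟨hn, hq2⟩
      rcases h2 with h2 | h2
      · rw [hn] at h2
        exact absurd h2 (by decide)
      · omega)
    refine not_dvd_of_bd hr (card_out hna (.psu n p f) ⟨F, inferInstance, inferInstance, hF, ⟨e⟩⟩
      (by rw [Nat.card_congr e.toEquiv]; exact hR)) hp hf (ne_of_bne h3) h4
  | oodd n q =>
    simp only [okG, Bool.and_eq_true, Nat.ble_eq, Nat.blt_eq] at hok
    obtain ⟨⟨⟨h1, h2⟩, h3⟩, h4⟩ := hok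
    obtain ⟨F, _, _, hF, ⟨e⟩⟩ := hg
    obtain ⟨p, f, hp, hf, hF'⟩ := exists_pp F
    have hq : q = p ^ f := by rw [← hF, hF']
    subst hq
    have ho : Odd (p ^ f) := Nat.odd_iff.2 (Nat.eq_of_beq_eq_true h2)
    have hR := oodd_real hp hf hF h1 ho
    refine not_dvd_of_bd hr (card_out hna (.oodd n p f h1 ho) ⟨F, inferInstance, inferInstance, hF, ⟨e⟩⟩
      (by rw [Nat.card_congr e.toEquiv]; exact hR)) hp hf (ne_of_bne h3) h4
  | oplus n q =>
    simp only [okG, Bool.and_eq_true, Nat.ble_eq, Nat.blt_eq] at hok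
    obtain ⟨⟨h1, h3⟩, h4⟩ := hok
    obtain ⟨F, _, _, hF, ⟨e⟩⟩ := hg
    obtain ⟨p, f, hp, hf, hF'⟩ := exists_pp F
    have hq : q = p ^ f := by rw [← hF, hF']
    subst hq
    have hR := oplus_real hp hf hF h1
    refine not_dvd_of_bd hr (card_out hna (.oplus n p f) ⟨F, inferInstance, inferInstance, hF, ⟨e⟩⟩
      (by rw [Nat.card_congr e.toEquiv]; exact hR)) hp hf (ne_of_bne h3) h4
  | ominus n q =>
    simp only [okG, Bool.and_eq_true, Nat.ble_eq, Nat.blt_eq] at hok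
    obtain ⟨⟨h1, h3⟩, h4⟩ := hok
    obtain ⟨F, _, _, a, b, hF, hab, ⟨e⟩⟩ := hg
    obtain ⟨p, f, hp, hf, hF'⟩ := exists_pp F
    have hq : q = p ^ f := by rw [← hF, hF']
    subst hq
    have hR := ominus_real hp hf hF h1 hab
    refine not_dvd_of_bd hr (card_out hna (.ominus n p f) ⟨F, inferInstance, inferInstance, a, b, hF, hab, ⟨e⟩⟩
      (by rw [Nat.card_congr e.toEquiv]; exact hR)) hp hf (ne_of_bne h3) h4
  | g2 q =>
    simp only [okG, Bool.and_eq_true, Nat.ble_eq, Nat.blt_eq] at hok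
    obtain ⟨⟨h1, h3⟩, h4⟩ := hok
    obtain ⟨F, _, _, hF, ⟨e⟩⟩ := hg
    obtain ⟨p, f, hp, hf, hF'⟩ := exists_pp F
    have hq : q = p ^ f := by rw [← hF, hF']
    subst hq
    refine not_dvd_of_bd hr (card_out hna (.g2 p f) ⟨F, inferInstance, inferInstance, hF, ⟨e⟩⟩
      ⟨hp, hf, h1, ?_⟩) hp hf (ne_of_bne h3) h4
    rw [Nat.card_congr e.toEquiv, T.g2 F, hF]
    change 1 * _ = (p ^ f) ^ 6 * (_ * _)
    ring
  | f4 q =>
    simp only [okG, Bool.and_eq_true, Nat.blt_eq] at hok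
    obtain ⟨h3, h4⟩ := hok
    obtain ⟨F, _, _, hF, ⟨e⟩⟩ := hg
    obtain ⟨p, f, hp, hf, hF'⟩ := exists_pp F
    have hq : q = p ^ f := by rw [← hF, hF']
    subst hq
    refine not_dvd_of_bd hr (card_out hna (.f4 p f) ⟨F, inferInstance, inferInstance, hF, ⟨e⟩⟩
      ⟨hp, hf, trivial, ?_⟩) hp hf (ne_of_bne h3) h4
    rw [Nat.card_congr e.toEquiv, T.f4 F _ hF]
    change 1 * _ = (p ^ f) ^ 24 * (_ * _ * _ * _)
    ring
  | e6 q =>
    simp only [okG, Bool.and_eq_true, Nat.blt_eq] at hok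
    obtain ⟨h3, h4⟩ := hok
    obtain ⟨F, _, _, hF, ⟨e⟩⟩ := hg
    obtain ⟨p, f, hp, hf, hF'⟩ := exists_pp F
    have hq : q = p ^ f := by rw [← hF, hF']
    subst hq
    refine not_dvd_of_bd hr (card_out hna (.e6 p f) ⟨F, inferInstance, inferInstance, hF, ⟨e⟩⟩
      ⟨hp, hf, trivial, ?_⟩) hp hf (ne_of_bne h3) h4
    rw [Nat.card_congr e.toEquiv]
    change Nat.gcd 3 (p ^ f - 1) * _ = (p ^ f) ^ 36 * (_ * _ * _ * _ * _ * _)
    rw [T.e6 F _ hF]
    ring
  | e7 q =>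
    simp only [okG, Bool.and_eq_true, Nat.blt_eq] at hok
    obtain ⟨h3, h4⟩ := hok
    obtain ⟨F, _, _, hF, ⟨e⟩⟩ := hg
    obtain ⟨p, f, hp, hf, hF'⟩ := exists_pp F
    have hq : q = p ^ f := by rw [← hF, hF']
    subst hq
    refine not_dvd_of_bd hr (card_out hna (.e7 p f) ⟨F, inferInstance, inferInstance, hF, ⟨e⟩⟩
      ⟨hp, hf, trivial, ?_⟩) hp hf (ne_of_bne h3) h4
    rw [Nat.card_congr e.toEquiv]
    change Nat.gcd 2 (p ^ f - 1) * _ = (p ^ f) ^ 63 * (_ * _ * _ * _ * _ * _ * _)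
    rw [T.e7 F _ hF]
    ring
  | e8 q =>
    simp only [okG, Bool.and_eq_true, Nat.blt_eq] at hok
    obtain ⟨h3, h4⟩ := hok
    obtain ⟨F, _, _, hF, ⟨e⟩⟩ := hg
    obtain ⟨p, f, hp, hf, hF'⟩ := exists_pp F
    have hq : q = p ^ f := by rw [← hF, hF']
    subst hq
    refine not_dvd_of_bd hr (card_out hna (.e8 p f) ⟨F, inferInstance, inferInstance, hF, ⟨e⟩⟩
      ⟨hp, hf, trivial, ?_⟩) hp hf (ne_of_bne h3) h4
    rw [Nat.card_congr e.toEquiv, T.e8 F _ hF]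
    change 1 * _ = (p ^ f) ^ 120 * (_ * _ * _ * _ * _ * _ * _ * _)
    ring
  | te6 q =>
    simp only [okG, Bool.and_eq_true, Nat.blt_eq] at hok
    obtain ⟨h3, h4⟩ := hok
    obtain ⟨F, _, _, hF, ⟨e⟩⟩ := hg
    have hqp : IsPrimePow q := by
      have h2 : IsPrimePow (q ^ 2) := hF ▸ Fintype.isPrimePow_card_of_field
      exact (isPrimePow_pow_iff (by norm_num)).1 h2
    obtain ⟨p, f, hp, hf, rfl⟩ := (isPrimePow_nat_iff _).1 hqp
    refine not_dvd_of_bd hr (card_out hna (.te6 p f) ⟨F, inferInstance, inferInstance, hF, ⟨e⟩⟩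
      ⟨hp, hf, trivial, ?_⟩) hp hf (ne_of_bne h3) h4
    rw [Nat.card_congr e.toEquiv]
    change Nat.gcd 3 (p ^ f + 1) * _ = (p ^ f) ^ 36 * (_ * _ * _ * _ * _ * _)
    rw [T.te6 F _ hqp hF]
    ring
  | td4 q =>
    simp only [okG, Bool.and_eq_true, Nat.blt_eq] at hok
    obtain ⟨h3, h4⟩ := hok
    obtain ⟨F, _, _, hF, ⟨e⟩⟩ := hg
    have hqp : IsPrimePow q := by
      have h2 : IsPrimePow (q ^ 3) := hF ▸ Fintype.isPrimePow_card_of_field
      exact (isPrimePow_pow_iff (by norm_num)).1 h2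
    obtain ⟨p, f, hp, hf, rfl⟩ := (isPrimePow_nat_iff _).1 hqp
    refine not_dvd_of_bd hr (card_out hna (.td4 p f) ⟨F, inferInstance, inferInstance, hF, ⟨e⟩⟩
      ⟨hp, hf, trivial, ?_⟩) hp hf (ne_of_bne h3) h4
    rw [Nat.card_congr e.toEquiv, T.td4 F _ hqp hF]
    change 1 * _ = (p ^ f) ^ 12 * (_ * _ * _)
    ring
  | sz q =>
    simp only [okG, Bool.and_eq_true, Nat.blt_eq] at hok
    obtain ⟨h3, h4⟩ := hok
    obtain ⟨F, _, _, m, hm, hF, rfl, ⟨e⟩⟩ := hg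
    refine not_dvd_of_bd hr (card_out hna (.sz 2 (2 * m + 1)) ⟨F, inferInstance, inferInstance, m, hm, hF, rfl, ⟨e⟩⟩
      ⟨Nat.prime_two, by omega, ⟨rfl, odd_two_mul_add_one m, by omega⟩, ?_⟩) Nat.prime_two (by omega) (ne_of_bne h3) h4
    rw [Nat.card_congr e.toEquiv, T.sz F m hm hF]
    change 1 * _ = (2 ^ (2 * m + 1)) ^ 2 * (_ * _)
    ring
  | ree q =>
    simp only [okG, Bool.and_eq_true, Nat.blt_eq] at hok
    obtain ⟨h3, h4⟩ := hok
    obtain ⟨F, _, _, m, hm, hF, rfl, ⟨e⟩⟩ := hg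
    refine not_dvd_of_bd hr (card_out hna (.ree 3 (2 * m + 1)) ⟨F, inferInstance, inferInstance, m, hm, hF, rfl, ⟨e⟩⟩
      ⟨Nat.prime_three, by omega, ⟨rfl, odd_two_mul_add_one m, by omega⟩, ?_⟩) Nat.prime_three (by omega)
      (ne_of_bne h3) h4
    rw [Nat.card_congr e.toEquiv, T.ree F m hm hF]
    change 1 * _ = (3 ^ (2 * m + 1)) ^ 3 * (_ * _)
    ring
  | tf4 q =>
    simp only [okG, Bool.and_eq_true, Nat.blt_eq] at hok
    obtain ⟨h3, h4⟩ := hok
    obtain ⟨F, _, _, m, hm, hF, rfl, ⟨e⟩⟩ := hg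
    refine not_dvd_of_bd hr (card_out hna (.tf4 2 (2 * m + 1)) ⟨F, inferInstance, inferInstance, m, hm, hF, rfl, ⟨e⟩⟩
      ⟨Nat.prime_two, by omega, ⟨rfl, odd_two_mul_add_one m, by omega⟩, ?_⟩) Nat.prime_two (by omega) (ne_of_bne h3) h4
    rw [Nat.card_congr e.toEquiv, T.tf4 F m hm hF]
    change 1 * _ = (2 ^ (2 * m + 1)) ^ 12 * (_ * _ * _ * _)
    ring
  | tits => exact not_dvd_of_le_two hr3 (H489.card_out_tits hg)
  | m11 => exact hs (by unfold IsSporadicGroup; tauto)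
  | m12 => exact hs (by unfold IsSporadicGroup; tauto)
  | m22 => exact hs (by unfold IsSporadicGroup; tauto)
  | m23 => exact hs (by unfold IsSporadicGroup; tauto)
  | m24 => exact hs (by unfold IsSporadicGroup; tauto)
  | j1 => exact hs (by unfold IsSporadicGroup; tauto)
  | j2 => exact hs (by unfold IsSporadicGroup; tauto)
  | j3 => exact hs (by unfold IsSporadicGroup; tauto)
  | j4 => exact hs (by unfold IsSporadicGroup; tauto)
  | co1 => exact hs (by unfold IsSporadicGroup; tauto)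
  | co2 => exact hs (by unfold IsSporadicGroup; tauto)
  | co3 => exact hs (by unfold IsSporadicGroup; tauto)
  | mcl => exact hs (by unfold IsSporadicGroup; tauto)
  | hs => exact hs (by unfold IsSporadicGroup; tauto)
  | suz => exact hs (by unfold IsSporadicGroup; tauto)
  | he => exact hs (by unfold IsSporadicGroup; tauto)
  | ru => exact hs (by unfold IsSporadicGroup; tauto)
  | on => exact hs (by unfold IsSporadicGroup; tauto)
  | ly => exact hs (by unfold IsSporadicGroup; tauto)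
  | fi22 => exact hs (by unfold IsSporadicGroup; tauto)
  | fi23 => exact hs (by unfold IsSporadicGroup; tauto)
  | fi24 => exact hs (by unfold IsSporadicGroup; tauto)
  | hn => exact hs (by unfold IsSporadicGroup; tauto)
  | th => exact hs (by unfold IsSporadicGroup; tauto)
  | b => exact hs (by unfold IsSporadicGroup; tauto)
  | m => exact hs (by unfold IsSporadicGroup; tauto)

end Cfsg.Agent.H154.OutList
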