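import Cfsg.Agent.H154.StrP.Lift
import Cfsg.Agent.H49.SPSimple

/-!
# Strongly `p`-embedded subgroups, structural method: the dichotomy (helper154)

`struct` : `X` finite with `O_{p'}(X) = O_p(X) = 1`, `p` divides `|X|`, `p²` does not divide the orders of the involution
centralizers (`F2 2 p 2 X`). Either `X` has a simple nonabelian normal subgroup `E` with `C_X(E) = 1`, or the layer is
a product of two simple groups with Sylow `p`-subgroups of order `p`, with trivial centralizer.
-/

set_option autoImplicit false

namespace Cfsg.Agent.H154.StrP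

open Cfsg Subgroup
open Cfsg.Agent.SignalizersComponents.Components

universe u

variable {X : Type u} [Group X] [Finite X] {p : ℕ} [hp : Fact p.Prime]

/-- one simple component -/
def One (p : ℕ) (X : Type u) [Group X] : Prop :=
  ∃ E : Subgroup X, E.Normal ∧ IsSimpleGroup ↥E ∧ ¬ IsMulCommutative ↥E ∧ centralizer (E : Set X) = ⊥ ∧
    p ∣ Nat.card ↥E

/-- two simple components -/
def Two (p : ℕ) (X : Type u) [Group X] : Prop :=
  ∃ E₁ E₂ : Subgroup X, E₁ ≠ E₂ ∧ IsSimpleGroup ↥E₁ ∧ IsSimpleGroup ↥E₂ ∧ ¬ IsMulCommutative ↥E₁ ∧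
    ¬ IsMulCommutative ↥E₂ ∧ (∀ a ∈ E₁, ∀ b ∈ E₂, a * b = b * a) ∧ (E₁ ⊔ E₂).Normal ∧
    centralizer ((E₁ ⊔ E₂ : Subgroup X) : Set X) = ⊥ ∧ p ∣ Nat.card ↥E₁ ∧ p ∣ Nat.card ↥E₂ ∧
    ¬ p ^ 2 ∣ Nat.card ↥E₁ ∧ ¬ p ^ 2 ∣ Nat.card ↥E₂ ∧
    ∀ g : X, (E₁.map (MulAut.conj g).toMonoidHom = E₁ ∧ E₂.map (MulAut.conj g).toMonoidHom = E₂) ∨
      (E₁.map (MulAut.conj g).toMonoidHom = E₂ ∧ E₂.map (MulAut.conj g).toMonoidHom = E₁)

/-- a quasisimple group has an involution -/
theorem exists_inv (FT : ∀ (K : Type u) [Group K] [Finite K], Odd (Nat.card K) → Group.IsSolvable K)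
    {T : Subgroup X} (hT : IsQuasisimple ↥T) : ∃ v ∈ T, orderOf v = 2 := by
  have h2 : Fact (Nat.Prime 2) := ⟨Nat.prime_two⟩
  have hev : 2 ∣ Nat.card ↥T := by
    rw [← even_iff_two_dvd]
    by_contra ho
    rw [Nat.not_even_iff_odd] at ho
    have h1 := FT ↥T ho
    have : Group.IsPerfect ↥T := hT.1
    have := quasisimple_nontrivial hT
    exact Group.IsPerfect.not_isSolvable _ h1
  obtain ⟨⟨v, hvT⟩, hv⟩ := exists_prime_orderOf_dvd_card' (G := T) 2 hev
  rw [Subgroup.orderOf_mk] at hv
  exact ⟨v, hvT, hv⟩

/-- **The dichotomy.** -/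
theorem struct (FT : ∀ (K : Type u) [Group K] [Finite K], Odd (Nat.card K) → Group.IsSolvable K)
    (hO' : pPrimeCore p X = ⊥) (hO : pCore p X = ⊥) (hd : p ∣ Nat.card X) (ha : F2 2 p 2 X) :
    One p X ∨ Two p X := by
  have hF : fittingSubgroup X = ⊥ := by
    have h1 := SignalizersComponents.CompOrbit.fittingSubgroup_le_pCore (p := p) hO'
    rw [hO] at h1
    exact le_bot_iff.1 h1
  have hlay : generalizedFittingSubgroup X = layer X := by
    rw [Lib.GenFitting.genFitting_def, hF, sup_bot_eq]
  have hdc : ∀ {K : Subgroup X}, IsComponent K → p ∣ Nat.card K := fun hK => H233.Simple.dvd_card_component hO' hK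
  -- there is a component
  obtain ⟨T, hT⟩ : ∃ K : Subgroup X, IsComponent K := by
    by_contra hc
    push Not at hc
    have h1 : layer X = ⊥ := by
      rw [← le_bot_iff, layer_le_iff]
      intro K hK
      exact absurd hK (hc K)
    have h2 := Lib.GenFitting.centralizer_genFitting_le (G := X)
    rw [hlay, h1] at h2
    have h3 : (⊤ : Subgroup X) ≤ ⊥ := by
      refine le_trans ?_ h2
      intro g _
      rw [mem_centralizer_iff]
      intro x hx
      rw [SetLike.mem_coe, mem_bot] at hx
      rw [hx, one_mul, mul_one]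
    have h4 : Nat.card X = 1 := by
      rw [← Subgroup.card_top, le_bot_iff.1 h3, Subgroup.card_bot]
    rw [h4, Nat.dvd_one] at hd
    exact hp.out.one_lt.ne' hd
  -- the centre of a component is trivial
  have hcen : ∀ {K : Subgroup X}, IsComponent K → ∀ z ∈ K, (∀ k ∈ K, z * k = k * z) → z = 1 := by
    intro K hK z hz hzc
    have h1 : z ∈ centralizer (layer X : Set X) := by
      have h2 : layer X ≤ centralizer ({z} : Set X) := by
        rw [layer_le_iff]
        intro J hJ
        by_cases hJK : J = K
        · intro j hj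
          rw [mem_centralizer_iff]
          rintro _ rfl
          exact hzc j (hJK ▸ hj)
        · refine (component_le_centralizer_of_ne hJ hK hJK).trans (Subgroup.centralizer_le ?_)
          rw [Set.singleton_subset_iff]
          exact hz
      rw [mem_centralizer_iff]
      intro j hj
      exact (mem_centralizer_iff.1 (h2 hj) z rfl).symm
    have h3 := SignalizersComponents.CompOrbit.inf_centralizer_self_le_pCore (p := p) (N := layer X) hO' (layer_normal X)
    rw [hO, le_bot_iff] at h3
    have h4 : z ∈ layer X ⊓ centralizer (layer X : Set X) := ⟨component_le_layer hK hz, h1⟩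
    rw [h3, mem_bot] at h4
    exact h4
  have hsim : ∀ {K : Subgroup X}, IsComponent K → IsSimpleGroup ↥K := by
    intro K hK
    have hc : center ↥K = ⊥ := by
      rw [eq_bot_iff]
      intro z hz
      rw [mem_bot]
      apply Subtype.ext
      apply hcen hK z z.2
      intro k hk
      exact (congrArg Subtype.val (mem_center_iff.1 hz ⟨k, hk⟩)).symm
    have h3 := hK.2.2
    have e : ↥K ⧸ center ↥K ≃* ↥K := (QuotientGroup.quotientMulEquivOfEq hc).trans QuotientGroup.quotientBot
    have : Nontrivial ↥K := quasisimple_nontrivial hK.2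
    exact IsSimpleGroup.isSimpleGroup_of_surjective e.toMonoidHom e.surjective
  have hcomm : ∀ {K L : Subgroup X}, IsComponent K → IsComponent L → K ≠ L → ∀ a ∈ K, ∀ b ∈ L, a * b = b * a := by
    intro K L hK hL hne a ha b hb
    exact ((mem_centralizer_iff.1 (component_le_centralizer_of_ne hK hL hne ha)) b hb).symm
  have hinf : ∀ {K L : Subgroup X}, IsComponent K → IsComponent L → K ≠ L → ∀ a ∈ K, a ∈ L → a = 1 := by
    intro K L hK hL hne a haK haL
    refine hcen hK a haK fun k hk => ?_
    exact (hcomm hK hL hne k hk a haL).symm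
  -- the centraliser of the layer
  have hcl : centralizer (layer X : Set X) = ⊥ := by
    have h1 := Lib.GenFitting.centralizer_genFitting_le (G := X)
    rw [hlay] at h1
    have h3 := SignalizersComponents.CompOrbit.inf_centralizer_self_le_pCore (p := p) (N := layer X) hO' (layer_normal X)
    rw [hO, le_bot_iff] at h3
    rw [eq_bot_iff, ← h3]
    exact le_inf h1 le_rfl
  by_cases h2 : ∃ L : Subgroup X, IsComponent L ∧ L ≠ T
  · right
    obtain ⟨L, hL, hLT⟩ := h2
    have hthree : ∀ J : Subgroup X, IsComponent J → J = T ∨ J = L := by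
      intro J hJ
      by_contra hcon
      push Not at hcon
      obtain ⟨hJT, hJL⟩ := hcon
      obtain ⟨v, hvJ, hv⟩ := exists_inv FT hJ.2
      obtain ⟨⟨k, hkT⟩, hk⟩ := exists_prime_orderOf_dvd_card' (G := T) p (hdc hT)
      obtain ⟨⟨l, hlL⟩, hl⟩ := exists_prime_orderOf_dvd_card' (G := L) p (hdc hL)
      rw [Subgroup.orderOf_mk] at hk hl
      apply ha v hv
      have hkl : k * l = l * k := hcomm hT hL hLT.symm k hkT l hlL
      -- the product of the two cyclic groups
      have hcard : Nat.card ↥(zpowers k) * Nat.card ↥(zpowers l) ∣ Nat.card ↥(centralizer ({v} : Set X)) := by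
        let f : ↥(zpowers k) × ↥(zpowers l) →* X :=
          MonoidHom.noncommCoprod (zpowers k).subtype (zpowers l).subtype (by
            rintro ⟨_, i, rfl⟩ ⟨_, j, rfl⟩
            exact (Commute.zpow_zpow (show Commute k l from hkl) i j))
        have hf : Function.Injective f := by
          rw [← MonoidHom.ker_eq_bot_iff, eq_bot_iff]
          rintro ⟨a, b⟩ hab
          rw [MonoidHom.mem_ker] at hab
          have h3 : (a : X) * b = 1 := hab
          have haT : (a : X) ∈ T := (zpowers_le.2 hkT) a.2
          have hbL : (b : X) ∈ L := (zpowers_le.2 hlL) b.2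
          have h4 : (a : X) = (b : X)⁻¹ := eq_inv_of_mul_eq_one_left h3
          have h5 : (a : X) = 1 := hinf hT hL hLT.symm a haT (h4 ▸ inv_mem hbL)
          have h6 : (b : X) = 1 := by rw [h5, one_mul] at h3; exact h3
          rw [mem_bot]
          exact Prod.ext (Subtype.ext h5) (Subtype.ext h6)
        rw [← Nat.card_prod, ← Subgroup.card_top, ← Subgroup.card_map_of_injective hf]
        apply card_dvd_of_le
        rintro _ ⟨⟨a, b⟩, -, rfl⟩
        rw [mem_centralizer_singleton_iff]
        have haT : (a : X) ∈ T := (zpowers_le.2 hkT) a.2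
        have hbL : (b : X) ∈ L := (zpowers_le.2 hlL) b.2
        show (a : X) * b * v = v * (a * b)
        calc (a : X) * b * v = a * (b * v) := by group
          _ = a * (v * b) := by rw [hcomm hL hJ hJL.symm b hbL v hvJ]
          _ = (a * v) * b := by group
          _ = v * (a * b) := by rw [hcomm hT hJ hJT.symm a haT v hvJ]; group
      rwa [Nat.card_zpowers, Nat.card_zpowers, hk, hl, ← pow_two] at hcard
    have hnd : ∀ {K J : Subgroup X}, IsComponent K → IsComponent J → K ≠ J → ¬ p ^ 2 ∣ Nat.card ↥K := by
      intro K J hK hJ hne hdvd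
      obtain ⟨v, hvJ, hv⟩ := exists_inv FT hJ.2
      refine ha v hv (hdvd.trans (card_dvd_of_le fun k hk => ?_))
      exact mem_centralizer_singleton_iff.2 (hcomm hK hJ hne k hk v hvJ)
    have hlTL : layer X = T ⊔ L := by
      apply le_antisymm
      · rw [layer_le_iff]
        intro J hJ
        rcases hthree J hJ with rfl | rfl
        · exact le_sup_left
        · exact le_sup_right
      · exact sup_le (component_le_layer hT) (component_le_layer hL)
    refine ⟨T, L, hLT.symm, hsim hT, hsim hL, quasisimple_not_isMulCommutative hT.2,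
      quasisimple_not_isMulCommutative hL.2, hcomm hT hL hLT.symm, ?_, ?_, hdc hT, hdc hL,
      hnd hT hL hLT.symm, hnd hL hT hLT, ?_⟩
    · rw [← hlTL]
      exact layer_normal X
    · rw [← hlTL]
      exact hcl
    · intro g
      have h3 := hthree _ (isComponent_conj g hT)
      have h4 := hthree _ (isComponent_conj g hL)
      have hinj : T.map (MulAut.conj g).toMonoidHom ≠ L.map (MulAut.conj g).toMonoidHom := by
        intro h
        exact hLT.symm (Subgroup.map_injective (MulAut.conj g).injective h)
      rcases h3 with h3 | h3 <;> rcases h4 with h4 | h4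
      · exact absurd (h3.trans h4.symm) hinj
      · exact Or.inl ⟨h3, h4⟩
      · exact Or.inr ⟨h3, h4⟩
      · exact absurd (h3.trans h4.symm) hinj
  · left
    push Not at h2
    have hlT : layer X = T := by
      apply le_antisymm
      · rw [layer_le_iff]
        intro J hJ
        rw [h2 J hJ]
      · exact component_le_layer hT
    refine ⟨T, ?_, hsim hT, quasisimple_not_isMulCommutative hT.2, ?_, hdc hT⟩
    · rw [← hlT]
      exact layer_normal X
    · rw [← hlT]
      exact hcl

end Cfsg.Agent.H154.StrP
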