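import Cfsg.Agent.H154.StrP.Gen
import Cfsg.Agent.H154.StrP.Kill13

/-!
# No strongly 13-embedded subgroup in the Monster: the abstract theorem (helper154)
-/

set_option autoImplicit false

namespace Cfsg.Agent.H154.StrP

open Cfsg Subgroup Cfsg.Agent.Lib
open Cfsg.Agent.H998.StrP (NoSP)
open Cfsg.Agent.H154.Kill13

universe u

theorem card_eq_mul {C Y : Type*} [Group C] [Group Y] {π : C →* Y} (hπ : Function.Surjective π) :
    Nat.card C = Nat.card Y * Nat.card ↥π.ker := by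
  rw [card_eq_card_quotient_mul_card_subgroup π.ker,
    Nat.card_congr (QuotientGroup.quotientKerEquivOfSurjective π hπ).toEquiv]

/-- an elementary abelian 2-group of order at least 8 lifts modulo a subgroup of odd order -/
theorem exists_lift_eight {C Y : Type*} [Group C] [Finite C] [Group Y] {π : C →* Y} (hπ : Function.Surjective π)
    (hodd : Odd (Nat.card ↥π.ker)) (h : PRankAtLeast 2 3 Y) : ∃ A : Subgroup C, (∀ a ∈ A, a * a = 1) ∧ 8 ≤ Nat.card A := by
  have h2f : Fact (Nat.Prime 2) := ⟨Nat.prime_two⟩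
  have hYf : Finite Y := Finite.of_surjective π hπ
  obtain ⟨B, -, hB2, hB8⟩ := h
  have hBp : IsPGroup 2 ↥B := by
    rintro ⟨b, hb⟩
    exact ⟨1, Subtype.ext (by rw [pow_one]; exact hB2 b hb)⟩
  obtain ⟨k, hk⟩ := IsPGroup.iff_card.1 hBp
  -- the preimage
  have h1 : Nat.card ↥(B.comap π) = Nat.card ↥π.ker * 2 ^ k := by
    have h2 := card_mul_index (B.comap π)
    rw [index_comap_of_surjective B hπ, card_eq_mul hπ, ← card_mul_index B, hk] at h2
    have h3 : B.index ≠ 0 := index_ne_zero_of_finite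
    refine Nat.eq_of_mul_eq_mul_right (Nat.pos_of_ne_zero h3) ?_
    rw [h2]
    ring
  have h2 : 2 ^ k ∣ Nat.card ↥(B.comap π) := by rw [h1]; exact dvd_mul_left _ _
  obtain ⟨D, hD⟩ := Sylow.exists_subgroup_card_pow_prime 2 h2
  refine ⟨D.map (B.comap π).subtype, ?_, ?_⟩
  · rintro _ ⟨d, hd, rfl⟩
    have hcop : (Nat.card ↥(D.map (B.comap π).subtype)).Coprime (Nat.card ↥π.ker) := by
      rw [card_map_of_injective (subtype_injective _), hD]
      exact Nat.Coprime.pow_left _ (Nat.coprime_two_left.2 hodd)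
    have h6 : (d : C) * d ∈ (D.map (B.comap π).subtype) ⊓ π.ker := by
      refine ⟨⟨d * d, mul_mem hd hd, rfl⟩, MonoidHom.mem_ker.2 ?_⟩
      rw [map_mul, ← pow_two]
      exact hB2 _ d.2
    rw [(disjoint_of_coprime_natCard hcop).eq_bot, mem_bot] at h6
    exact h6
  · rw [card_map_of_injective (subtype_injective _), hD, ← hk]
    exact hB8

/-- an element of order 14 lifts -/
theorem exists_lift_fourteen {C Y : Type*} [Group C] [Finite C] [Group Y] {π : C →* Y}
    (hπ : Function.Surjective π) {g : Y} (hg : orderOf g = 14) :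
    ∃ y v : C, orderOf y = 7 ∧ orderOf v = 2 ∧ y * v = v * y := by
  obtain ⟨u, rfl⟩ := hπ g
  have h1 : 14 ∣ orderOf u := by
    rw [← hg]
    exact orderOf_map_dvd π u
  obtain ⟨m, hm⟩ := h1
  have h0 : orderOf u ≠ 0 := (orderOf_pos u).ne'
  have hm0 : m ≠ 0 := by rintro rfl; rw [mul_zero] at hm; exact h0 hm
  refine ⟨u ^ (2 * m), u ^ (7 * m), ?_, ?_, ?_⟩
  · rw [orderOf_pow_of_dvd (by omega) ⟨7, by rw [hm]; ring⟩, hm]
    exact Nat.div_eq_of_eq_mul_left (by omega) (by ring)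
  · rw [orderOf_pow_of_dvd (by omega) ⟨2, by rw [hm]; ring⟩, hm]
    exact Nat.div_eq_of_eq_mul_left (by omega) (by ring)
  · exact (Commute.pow_pow_self u _ _).eq

/-- **The abstract theorem for `(M, 13)`.** -/
theorem noSP_thirteen {K : Type u} [Group K] [Finite K]
    (FT : ∀ (K : Type u) [Group K] [Finite K], Odd (Nat.card K) → Group.IsSolvable K)
    (T : OrdDiv.OrderTable.{u}) (hS : ∀ (G : Type u) [Group G] [Finite G] [IsSimpleGroup G], IsKnownSimple' G)
    (hK : Nat.card K = nM) (h : Setup 13 K)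
    (hr : ∀ x : K, orderOf x = 13 → ∀ A : Subgroup ↥(centralizer ({x} : Set K)), (∀ a ∈ A, a * a = 1) → Nat.card A < 8)
    (hc : ∀ x y v : K, orderOf x = 13 → orderOf y = 7 → orderOf v = 2 → y * v = v * y → x * y ≠ y * x) :
    NoSP 13 K := by
  have h13 : Fact (Nat.Prime 13) := ⟨by norm_num⟩
  intro H hH
  have h3 : 13 ^ 3 ∣ Nat.card K := by rw [hK]; decide +kernel
  rcases h.main FT (by norm_num) (n := 2) (by norm_num) h3 hH with
    ⟨X, _, _, hXH, hX3, -, hOT⟩ | ⟨x, Y, _, _, π, hx, hπ, hodd, hF, ⟨E, hEn, hEs, hEna, hEc, hEd⟩, hY2, hpk⟩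
  · have hXK : Nat.card X ∣ nM := by
      rw [← hK]
      exact hXH.trans (card_subgroup_dvd_card H)
    rcases hOT with ⟨E, hEn, hEs, hEna, hEc, hEd⟩ | ⟨E₁, E₂, -, hs1, hs2, hn1, hn2, -, -, hcb, hd1, hd2, hq1, hq2, hconj⟩
    · have hna : ¬ ∀ a b : ↥E, a * b = b * a := fun h => hEna ⟨⟨h⟩⟩
      have hEM : Nat.card ↥E ∣ nM := (card_subgroup_dvd_card E).trans hXK
      have hout := Kill13.not_dvd_out T (hS ↥E) hna hEM hEd
      have h1 := (hX3.trans (one_dvd hEn hEna hEc))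
      have hcop : (13 ^ 3).Coprime (Nat.card (Cfsg.Out ↥E)) :=
        Nat.Coprime.pow_left 3 ((Nat.Prime.coprime_iff_not_dvd h13.out).2 hout)
      have h2 := Kill13.cube T (hS ↥E) hna hEM (hcop.dvd_of_dvd_mul_right h1)
      -- `|E| = |K|`
      have h4 : Nat.card ↥E ≤ Nat.card ↥H := Nat.le_of_dvd Nat.card_pos ((card_subgroup_dvd_card E).trans hXH)
      have h5 : H = ⊤ := by
        apply eq_top_of_le_card
        rw [hK, ← h2]
        exact h4
      exact hH.2.1 h5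
    · obtain ⟨P⟩ : Nonempty (Sylow 13 X) := inferInstance
      have h1 := (P.pow_dvd_card_of_pow_dvd_card hX3).trans (two_dvd (by norm_num) hn1 hn2 hcb hconj P)
      have hout : ∀ (E : Subgroup X), IsSimpleGroup ↥E → ¬ IsMulCommutative ↥E → 13 ∣ Nat.card ↥E →
          ¬ 13 ∣ Nat.card (Cfsg.Out ↥E) := fun E hs hn hd =>
        Kill13.not_dvd_out T (hS ↥E) (fun h => hn ⟨⟨h⟩⟩) ((card_subgroup_dvd_card E).trans hXK) hd
      have ho1 := hout E₁ hs1 hn1 hd1
      have ho2 := hout E₂ hs2 hn2 hd2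
      obtain ⟨m₁, hm₁⟩ := hd1
      obtain ⟨m₂, hm₂⟩ := hd2
      have hc1 : ¬ 13 ∣ m₁ := fun h => hq1 (by rw [hm₁, pow_two]; exact Nat.mul_dvd_mul_left 13 h)
      have hc2 : ¬ 13 ∣ m₂ := fun h => hq2 (by rw [hm₂, pow_two]; exact Nat.mul_dvd_mul_left 13 h)
      have h4 : 13 ^ 3 ∣ 13 ^ 2 * (m₁ * Nat.card (Cfsg.Out ↥E₁) * (m₂ * Nat.card (Cfsg.Out ↥E₂))) := by
        refine h1.trans (dvd_of_eq ?_)
        rw [hm₁, hm₂]
        ring
      have h5 : 13 ∣ m₁ * Nat.card (Cfsg.Out ↥E₁) * (m₂ * Nat.card (Cfsg.Out ↥E₂)) := by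
        rw [show 13 ^ 3 = 13 ^ 2 * 13 by norm_num] at h4
        exact Nat.dvd_of_mul_dvd_mul_left (by norm_num) h4
      rcases (Nat.Prime.dvd_mul h13.out).1 h5 with h6 | h6
      · rcases (Nat.Prime.dvd_mul h13.out).1 h6 with h7 | h7
        · exact hc1 h7
        · exact ho1 h7
      · rcases (Nat.Prime.dvd_mul h13.out).1 h6 with h7 | h7
        · exact hc2 h7
        · exact ho2 h7
  · have hna : ¬ ∀ a b : ↥E, a * b = b * a := fun h => hEna ⟨⟨h⟩⟩
    -- the order of `Y`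
    have hYK : Nat.card Y * 13 ∣ nM := by
      rw [← hK]
      refine (Nat.mul_dvd_mul_left _ hpk).trans ?_
      rw [← card_eq_mul hπ]
      exact card_subgroup_dvd_card _
    have hEM : Nat.card ↥E * 13 ∣ nM := (Nat.mul_dvd_mul_right (card_subgroup_dvd_card E) 13).trans hYK
    have hEM' : Nat.card ↥E ∣ nM := (Dvd.intro _ rfl).trans hEM
    have hout := Kill13.not_dvd_out T (hS ↥E) hna hEM' hEd
    have h1 := hY2.trans (one_dvd hEn hEna hEc)
    have hcop : (13 ^ 2).Coprime (Nat.card (Cfsg.Out ↥E)) :=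
      Nat.Coprime.pow_left 2 ((Nat.Prime.coprime_iff_not_dvd h13.out).2 hout)
    have h2 : 13 ^ 2 ∣ Nat.card ↥E := hcop.dvd_of_dvd_mul_right h1
    have h4 : ¬ 13 ^ 3 ∣ Nat.card ↥E := by
      intro h5
      have h6 : 13 ^ 3 * 13 ∣ nM := (Nat.mul_dvd_mul_right h5 13).trans hEM
      revert h6
      decide +kernel
    rcases Kill13.kill T (hS ↥E) hna hEM' h2 h4 with h5 | ⟨g, hg⟩
    · obtain ⟨A, hA2, hA8⟩ := exists_lift_eight hπ hodd (RankThreeTwo.Base.of_subgroup E h5)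
      exact absurd (hr x hx A hA2) (Nat.not_lt.2 hA8)
    · obtain ⟨y, v, hy, hv, hyv⟩ := exists_lift_fourteen hπ (g := (g : Y)) (by rw [Subgroup.orderOf_coe, hg])
      refine hc x y v hx (by rw [Subgroup.orderOf_coe, hy]) (by rw [Subgroup.orderOf_coe, hv]) (congrArg Subtype.val hyv) ?_
      exact (mem_centralizer_singleton_iff.1 y.2).symm

end Cfsg.Agent.H154.StrP
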